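import Cfsg.Agent.Lib.KnownSimple.Leech.Co2.Rep
import Cfsg.Agent.Lib.KnownSimple.Leech.Co2.DataT
import Cfsg.Agent.Lib.KnownSimple.Leech.McL.Main
import Cfsg.Agent.Lib.KnownSimple.Leech.FastS

/-!
# The second Conway group: elements
-/

set_option autoImplicit false

namespace Cfsg.Agent.Lib.KnownSimple.Leech.Co2

open Cfsg Cfsg.Spor Cfsg.Agent.Lib.Compute Cfsg.Agent.Lib.Golay Cfsg.Agent.Lib.KnownSimple.PE
open Cfsg.Agent.Lib.KnownSimple Cfsg.Agent.Lib.KnownSimple.AutRigid
open Cfsg.Agent.Lib.KnownSimple.Leech Cfsg.Agent.Lib.KnownSimple.Leech.Co2Data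

/-- The encoding. -/
abbrev E : Enc (Fin N) N := encFin N
/-- The image of the representation. -/
noncomputable abbrev H : Subgroup (Equiv.Perm (Fin N)) := R.rep.range
/-- The group. -/
abbrev G : Type := ↥H

/-- Lookup in a permutation table. -/
noncomputable def pq (bl : List ℕ) (i : ℕ) : ℕ := pgetB 16 65535 10 1023 bl i
/-- The rank of a point in the small stable set. -/
noncomputable def rk (i : ℕ) : ℕ := pgetB 9 511 10 1023 rkB i
/-- Lookup in a table on the small stable set. -/
noncomputable def ps (t i : ℕ) : ℕ := pget 16 65535 t (rk i)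

theorem coe_code_mul {a b : G} {f g : ℕ → ℕ} (h1 : E.IsCode (a : Equiv.Perm (Fin N)) f)
    (h2 : E.IsCode (b : Equiv.Perm (Fin N)) g) :
    E.IsCode ((a * b : G) : Equiv.Perm (Fin N)) (fun i => f (g i)) := isCode_mul h1 h2

theorem hO : covOK N OM olist = true := by decide +kernel
theorem hol : ∀ i ∈ olist, i < N := by decide +kernel

theorem chkW : chkElt SW SWt = true := by decide +kernel

/-- The element of order 23. -/
noncomputable def wP : Equiv.Perm LL := Classical.choose (exists_elt chkW)
theorem wP_co0 : wP ∈ Co0 := (Classical.choose_spec (exists_elt chkW)).1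
theorem wP_spec : ∀ (x : LL) (j : ℕ), j < 24 → dotS (rowOf SW j) (toF x) = 8 * ((wP x : LL) : Vec) (pt j) :=
  (Classical.choose_spec (exists_elt chkW)).2
theorem colsW : ∀ i, ∀ q ∈ rowOf SW i, q.1 < 24 := cols_of_all (by decide +kernel)
theorem wP_u : wP leechU = leechU := img_of_S colsW wP_spec rowU_pt rowU_pt (by decide +kernel)

theorem phiU_u : phi ⟨_, MathieuFacts.mem_U⟩ leechU = leechU := img_of_P MathieuFacts.code_U rowU_pt rowU_pt (by decide +kernel)
theorem phiX_u : phi ⟨_, MathieuFacts.mem_X10⟩ leechU = leechU := img_of_P MathieuFacts.code_X10 rowU_pt rowU_pt (by decide +kernel)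

/-- An element of the group. -/
noncomputable def g0 : ↥Spor.Co2 := ⟨wP, wP_co0, wP_u⟩
/-- An element of the group. -/
noncomputable def g1 : ↥Spor.Co2 := ⟨phi ⟨_, MathieuFacts.mem_U⟩, phi_mem _, phiU_u⟩
/-- An element of the group. -/
noncomputable def g2 : ↥Spor.Co2 := ⟨phi ⟨_, MathieuFacts.mem_X10⟩, phi_mem _, phiX_u⟩

/-- The codes of the rows of the matrix. -/
noncomputable def rcW (j : ℕ) : ℕ := lgetD 0 rcWL j
theorem rowsW : rowsOK SW rcW = true := by decide +kernel
/-- The check of the table of the element of order 23. -/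
noncomputable def gW (i : ℕ) : Bool :=
  Nat.blt (pq t0B i) N && fastP rcW (tab i) (tab (pq t0B i))
/-- The check of the table of the element of order 11. -/
noncomputable def gU (i : ℕ) : Bool :=
  Nat.blt (pq t1B i) N && allBelow (fun j => decide (vecZ tab (pq t1B i) (pc MathieuData.pU j) = vecZ tab i j)) 24
/-- The check of the table of the element of order 10. -/
noncomputable def gX (i : ℕ) : Bool :=
  Nat.blt (pq t2B i) N && allBelow (fun j => decide (vecZ tab (pq t2B i) (pc MathieuData.pX10 j) = vecZ tab i j)) 24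


end Cfsg.Agent.Lib.KnownSimple.Leech.Co2
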