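import Cfsg.Agent.Lib.KnownSimple.Leech.Co2.Elts

/-!
# Check of a table of a generator
-/

set_option autoImplicit false

namespace Cfsg.Agent.Lib.KnownSimple.Leech.Co2

open Cfsg Cfsg.Spor Cfsg.Agent.Lib.Compute Cfsg.Agent.Lib.Golay Cfsg.Agent.Lib.KnownSimple.PE
open Cfsg.Agent.Lib.KnownSimple Cfsg.Agent.Lib.KnownSimple.AutRigid
open Cfsg.Agent.Lib.KnownSimple.Leech Cfsg.Agent.Lib.KnownSimple.Leech.Co2Data

set_option maxRecDepth 100000 in
theorem cX0 : chunk gX 2048 0 = true := by decide +kernel
set_option maxRecDepth 100000 in
theorem cX1 : chunk gX 2048 1 = true := by decide +kernel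
set_option maxRecDepth 100000 in
theorem cX2 : chunk gX 2048 2 = true := by decide +kernel
set_option maxRecDepth 100000 in
theorem cX3 : chunk gX 2048 3 = true := by decide +kernel
set_option maxRecDepth 100000 in
theorem cX4 : chunk gX 2048 4 = true := by decide +kernel
set_option maxRecDepth 100000 in
theorem cX5 : chunk gX 2048 5 = true := by decide +kernel
set_option maxRecDepth 100000 in
theorem cX6 : chunk gX 2048 6 = true := by decide +kernel
set_option maxRecDepth 100000 in
theorem cX7 : chunk gX 2048 7 = true := by decide +kernel
set_option maxRecDepth 100000 in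
theorem cX8 : chunk gX 2048 8 = true := by decide +kernel
set_option maxRecDepth 100000 in
theorem cX9 : chunk gX 2048 9 = true := by decide +kernel
set_option maxRecDepth 100000 in
theorem cX10 : chunk gX 2048 10 = true := by decide +kernel
set_option maxRecDepth 100000 in
theorem cX11 : chunk gX 2048 11 = true := by decide +kernel
set_option maxRecDepth 100000 in
theorem cX12 : chunk gX 2048 12 = true := by decide +kernel
set_option maxRecDepth 100000 in
theorem cX13 : chunk gX 2048 13 = true := by decide +kernel
set_option maxRecDepth 100000 in
theorem cX14 : chunk gX 2048 14 = true := by decide +kernel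
set_option maxRecDepth 100000 in
theorem cX15 : chunk gX 2048 15 = true := by decide +kernel
set_option maxRecDepth 100000 in
theorem cX16 : chunk gX 2048 16 = true := by decide +kernel
set_option maxRecDepth 100000 in
theorem cX17 : chunk gX 2048 17 = true := by decide +kernel
set_option maxRecDepth 100000 in
theorem cX18 : chunk gX 2048 18 = true := by decide +kernel
set_option maxRecDepth 100000 in
theorem cX19 : chunk gX 2048 19 = true := by decide +kernel
set_option maxRecDepth 100000 in
theorem cX20 : chunk gX 2048 20 = true := by decide +kernel
set_option maxRecDepth 100000 in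
theorem cX21 : chunk gX 2048 21 = true := by decide +kernel
set_option maxRecDepth 100000 in
theorem cX22 : chunk gX 2048 22 = true := by decide +kernel

end Cfsg.Agent.Lib.KnownSimple.Leech.Co2
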