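import Cfsg.Agent.Lib.KnownSimple.Leech.Co2.TabW
import Cfsg.Agent.Lib.KnownSimple.Leech.Co2.TabU
import Cfsg.Agent.Lib.KnownSimple.Leech.Co2.TabX

/-!
# The second Conway group: generators
-/

set_option autoImplicit false

namespace Cfsg.Agent.Lib.KnownSimple.Leech.Co2

open Cfsg Cfsg.Spor Cfsg.Agent.Lib.Compute Cfsg.Agent.Lib.Golay Cfsg.Agent.Lib.KnownSimple.PE
open Cfsg.Agent.Lib.KnownSimple Cfsg.Agent.Lib.KnownSimple.AutRigid
open Cfsg.Agent.Lib.KnownSimple.Leech Cfsg.Agent.Lib.KnownSimple.Leech.Co2Data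


theorem chkS_W : R.chkS SW (pq t0B) = true := by
  have h : allBelow gW (23 * 2048) = true := allBelow_of_chunks (fun c hc => by
    interval_cases c
    · exact cW0
    · exact cW1
    · exact cW2
    · exact cW3
    · exact cW4
    · exact cW5
    · exact cW6
    · exact cW7
    · exact cW8
    · exact cW9
    · exact cW10
    · exact cW11
    · exact cW12
    · exact cW13
    · exact cW14
    · exact cW15
    · exact cW16
    · exact cW17
    · exact cW18
    · exact cW19
    · exact cW20
    · exact cW21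
    · exact cW22
  )
  rw [allBelow_iff] at h
  show allBelow _ _ = true
  rw [allBelow_iff]
  intro i hi
  have h1 := h i hi
  simp only [gW, Bool.and_eq_true] at h1
  simp only [Bool.and_eq_true]
  exact ⟨h1.1, fastP_spec colsW rowsW h1.2⟩
theorem chkP_U : R.chkP (pc MathieuData.pU) (pq t1B) = true := by
  have h : allBelow gU (23 * 2048) = true := allBelow_of_chunks (fun c hc => by
    interval_cases c
    · exact cU0
    · exact cU1
    · exact cU2
    · exact cU3
    · exact cU4
    · exact cU5
    · exact cU6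
    · exact cU7
    · exact cU8
    · exact cU9
    · exact cU10
    · exact cU11
    · exact cU12
    · exact cU13
    · exact cU14
    · exact cU15
    · exact cU16
    · exact cU17
    · exact cU18
    · exact cU19
    · exact cU20
    · exact cU21
    · exact cU22
  )
  exact h
theorem chkP_X : R.chkP (pc MathieuData.pX10) (pq t2B) = true := by
  have h : allBelow gX (23 * 2048) = true := allBelow_of_chunks (fun c hc => by
    interval_cases c
    · exact cX0
    · exact cX1
    · exact cX2
    · exact cX3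
    · exact cX4
    · exact cX5
    · exact cX6
    · exact cX7
    · exact cX8
    · exact cX9
    · exact cX10
    · exact cX11
    · exact cX12
    · exact cX13
    · exact cX14
    · exact cX15
    · exact cX16
    · exact cX17
    · exact cX18
    · exact cX19
    · exact cX20
    · exact cX21
    · exact cX22
  )
  exact h

/-- An element of the image. -/
noncomputable def D0 : G := ⟨R.rep g0, g0, rfl⟩
/-- An element of the image. -/
noncomputable def D1 : G := ⟨R.rep g1, g1, rfl⟩
/-- An element of the image. -/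
noncomputable def D2 : G := ⟨R.rep g2, g2, rfl⟩

theorem code_D0 : E.IsCode ((D0 : G) : Equiv.Perm (Fin N)) (pq t0B) := R.code_of_S (g := g0) colsW wP_spec chkS_W
theorem code_D1 : E.IsCode ((D1 : G) : Equiv.Perm (Fin N)) (pq t1B) :=
  R.code_of_P (g := g1) (π := ⟨_, MathieuFacts.mem_U⟩) rfl MathieuFacts.code_U chkP_U
theorem code_D2 : E.IsCode ((D2 : G) : Equiv.Perm (Fin N)) (pq t2B) :=
  R.code_of_P (g := g2) (π := ⟨_, MathieuFacts.mem_X10⟩) rfl MathieuFacts.code_X10 chkP_X

/-- The generators. -/
def Sx : Set (Equiv.Perm (Fin N)) := {(D0 : Equiv.Perm (Fin N)), (D1 : Equiv.Perm (Fin N)), (D2 : Equiv.Perm (Fin N))}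
/-- The group generated by the generators. -/
def K : Subgroup (Equiv.Perm (Fin N)) := Subgroup.closure Sx

theorem memK_D0 : (D0 : Equiv.Perm (Fin N)) ∈ K := Subgroup.subset_closure (by simp [Sx])
theorem memK_D1 : (D1 : Equiv.Perm (Fin N)) ∈ K := Subgroup.subset_closure (by simp [Sx])
theorem memK_D2 : (D2 : Equiv.Perm (Fin N)) ∈ K := Subgroup.subset_closure (by simp [Sx])
theorem memK_pow (g : G) (e : ℕ) (h : (g : Equiv.Perm (Fin N)) ∈ K) : ((g ^ e : G) : Equiv.Perm (Fin N)) ∈ K := by
  rw [Subgroup.coe_pow]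
  exact K.pow_mem h e

/-- A strong generator. -/
noncomputable def S0 : G := D1 ^ 1
/-- The code of a strong generator. -/
noncomputable def cS0 : ℕ → ℕ := hyb OM (ps TK0) (cdOf E (S0 : Equiv.Perm (Fin N)))
/-- The code of the inverse of a strong generator. -/
noncomputable def ciS0 : ℕ → ℕ := hyb OM (ps TIK0) (cdOf E (S0 : Equiv.Perm (Fin N))⁻¹)
set_option maxRecDepth 100000 in
theorem code_S0 : E.IsCode ((S0 : G) : Equiv.Perm (Fin N)) (cS0) := by
  have h := coe_pow_isCode code_D1 1
  exact hyb_code hO h (by decide +kernel)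
set_option maxRecDepth 100000 in
theorem codei_S0 : E.IsCode ((S0⁻¹ : G) : Equiv.Perm (Fin N)) (ciS0) :=
  hyb_inv hO code_S0 (by decide +kernel)
/-- A strong generator. -/
noncomputable def S1 : G := D2 ^ 2
/-- The code of a strong generator. -/
noncomputable def cS1 : ℕ → ℕ := hyb OM (ps TK1) (cdOf E (S1 : Equiv.Perm (Fin N)))
/-- The code of the inverse of a strong generator. -/
noncomputable def ciS1 : ℕ → ℕ := hyb OM (ps TIK1) (cdOf E (S1 : Equiv.Perm (Fin N))⁻¹)
set_option maxRecDepth 100000 in
theorem code_S1 : E.IsCode ((S1 : G) : Equiv.Perm (Fin N)) (cS1) := by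
  have h := coe_pow_isCode code_D2 2
  exact hyb_code hO h (by decide +kernel)
set_option maxRecDepth 100000 in
theorem codei_S1 : E.IsCode ((S1⁻¹ : G) : Equiv.Perm (Fin N)) (ciS1) :=
  hyb_inv hO code_S1 (by decide +kernel)
/-- A strong generator. -/
noncomputable def S2 : G := D0 ^ 22 * (D2 ^ 9 * (D2 ^ 9 * (D0 ^ 22 * (D2 ^ 1 * (D0 ^ 1 * (D2 ^ 1 * (D2 ^ 1 * (D1 ^ 1 * (D1 ^ 1 * (D0 ^ 1 * (D2 ^ 1 * (D0 ^ 1 * (D1 ^ 1 * (D2 ^ 1 * (D0 ^ 1)))))))))))))))
/-- The code of a strong generator. -/
noncomputable def cS2 : ℕ → ℕ := hyb OM (ps TK2) (cdOf E (S2 : Equiv.Perm (Fin N)))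
/-- The code of the inverse of a strong generator. -/
noncomputable def ciS2 : ℕ → ℕ := hyb OM (ps TIK2) (cdOf E (S2 : Equiv.Perm (Fin N))⁻¹)
set_option maxRecDepth 100000 in
theorem code_S2 : E.IsCode ((S2 : G) : Equiv.Perm (Fin N)) (cS2) := by
  have h := coe_code_mul (coe_pow_isCode code_D0 22) (coe_code_mul (coe_pow_isCode code_D2 9) (coe_code_mul (coe_pow_isCode code_D2 9) (coe_code_mul (coe_pow_isCode code_D0 22) (coe_code_mul (coe_pow_isCode code_D2 1) (coe_code_mul (coe_pow_isCode code_D0 1) (coe_code_mul (coe_pow_isCode code_D2 1) (coe_code_mul (coe_pow_isCode code_D2 1) (coe_code_mul (coe_pow_isCode code_D1 1) (coe_code_mul (coe_pow_isCode code_D1 1) (coe_code_mul (coe_pow_isCode code_D0 1) (coe_code_mul (coe_pow_isCode code_D2 1) (coe_code_mul (coe_pow_isCode code_D0 1) (coe_code_mul (coe_pow_isCode code_D1 1) (coe_code_mul (coe_pow_isCode code_D2 1) (coe_pow_isCode code_D0 1)))))))))))))))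
  exact hyb_code hO h (by decide +kernel)
set_option maxRecDepth 100000 in
theorem codei_S2 : E.IsCode ((S2⁻¹ : G) : Equiv.Perm (Fin N)) (ciS2) :=
  hyb_inv hO code_S2 (by decide +kernel)
/-- A strong generator. -/
noncomputable def S3 : G := S0⁻¹ * (S1⁻¹ * (S2 * (S0)))
/-- The code of a strong generator. -/
noncomputable def cS3 : ℕ → ℕ := hyb OM (ps TK3) (cdOf E (S3 : Equiv.Perm (Fin N)))
/-- The code of the inverse of a strong generator. -/
noncomputable def ciS3 : ℕ → ℕ := hyb OM (ps TIK3) (cdOf E (S3 : Equiv.Perm (Fin N))⁻¹)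
set_option maxRecDepth 100000 in
theorem code_S3 : E.IsCode ((S3 : G) : Equiv.Perm (Fin N)) (cS3) := by
  have h := coe_code_mul codei_S0 (coe_code_mul codei_S1 (coe_code_mul code_S2 (code_S0)))
  exact hyb_code hO h (by decide +kernel)
set_option maxRecDepth 100000 in
theorem codei_S3 : E.IsCode ((S3⁻¹ : G) : Equiv.Perm (Fin N)) (ciS3) :=
  hyb_inv hO code_S3 (by decide +kernel)
/-- A strong generator. -/
noncomputable def S4 : G := S1⁻¹ * (S2 * (S0 * (S2)))
/-- The code of a strong generator. -/
noncomputable def cS4 : ℕ → ℕ := hyb OM (ps TK4) (cdOf E (S4 : Equiv.Perm (Fin N)))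
/-- The code of the inverse of a strong generator. -/
noncomputable def ciS4 : ℕ → ℕ := hyb OM (ps TIK4) (cdOf E (S4 : Equiv.Perm (Fin N))⁻¹)
set_option maxRecDepth 100000 in
theorem code_S4 : E.IsCode ((S4 : G) : Equiv.Perm (Fin N)) (cS4) := by
  have h := coe_code_mul codei_S1 (coe_code_mul code_S2 (coe_code_mul code_S0 (code_S2)))
  exact hyb_code hO h (by decide +kernel)
set_option maxRecDepth 100000 in
theorem codei_S4 : E.IsCode ((S4⁻¹ : G) : Equiv.Perm (Fin N)) (ciS4) :=
  hyb_inv hO code_S4 (by decide +kernel)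
/-- A strong generator. -/
noncomputable def S5 : G := S4⁻¹ * (S3 * (S4 * (S3 * (S3 * (S4)))))
/-- The code of a strong generator. -/
noncomputable def cS5 : ℕ → ℕ := hyb OM (ps TK5) (cdOf E (S5 : Equiv.Perm (Fin N)))
/-- The code of the inverse of a strong generator. -/
noncomputable def ciS5 : ℕ → ℕ := hyb OM (ps TIK5) (cdOf E (S5 : Equiv.Perm (Fin N))⁻¹)
set_option maxRecDepth 100000 in
theorem code_S5 : E.IsCode ((S5 : G) : Equiv.Perm (Fin N)) (cS5) := by
  have h := coe_code_mul codei_S4 (coe_code_mul code_S3 (coe_code_mul code_S4 (coe_code_mul code_S3 (coe_code_mul code_S3 (code_S4)))))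
  exact hyb_code hO h (by decide +kernel)
set_option maxRecDepth 100000 in
theorem codei_S5 : E.IsCode ((S5⁻¹ : G) : Equiv.Perm (Fin N)) (ciS5) :=
  hyb_inv hO code_S5 (by decide +kernel)
/-- A strong generator. -/
noncomputable def S6 : G := S4 * (S4 * (S3 * (S3 * (S3 * (S3)))))
/-- The code of a strong generator. -/
noncomputable def cS6 : ℕ → ℕ := hyb OM (ps TK6) (cdOf E (S6 : Equiv.Perm (Fin N)))
/-- The code of the inverse of a strong generator. -/
noncomputable def ciS6 : ℕ → ℕ := hyb OM (ps TIK6) (cdOf E (S6 : Equiv.Perm (Fin N))⁻¹)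
set_option maxRecDepth 100000 in
theorem code_S6 : E.IsCode ((S6 : G) : Equiv.Perm (Fin N)) (cS6) := by
  have h := coe_code_mul code_S4 (coe_code_mul code_S4 (coe_code_mul code_S3 (coe_code_mul code_S3 (coe_code_mul code_S3 (code_S3)))))
  exact hyb_code hO h (by decide +kernel)
set_option maxRecDepth 100000 in
theorem codei_S6 : E.IsCode ((S6⁻¹ : G) : Equiv.Perm (Fin N)) (ciS6) :=
  hyb_inv hO code_S6 (by decide +kernel)
/-- A strong generator. -/
noncomputable def S7 : G := S6⁻¹ * (S6⁻¹ * (S5 * (S5 * (S5))))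
/-- The code of a strong generator. -/
noncomputable def cS7 : ℕ → ℕ := hyb OM (ps TK7) (cdOf E (S7 : Equiv.Perm (Fin N)))
/-- The code of the inverse of a strong generator. -/
noncomputable def ciS7 : ℕ → ℕ := hyb OM (ps TIK7) (cdOf E (S7 : Equiv.Perm (Fin N))⁻¹)
set_option maxRecDepth 100000 in
theorem code_S7 : E.IsCode ((S7 : G) : Equiv.Perm (Fin N)) (cS7) := by
  have h := coe_code_mul codei_S6 (coe_code_mul codei_S6 (coe_code_mul code_S5 (coe_code_mul code_S5 (code_S5))))
  exact hyb_code hO h (by decide +kernel)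
set_option maxRecDepth 100000 in
theorem codei_S7 : E.IsCode ((S7⁻¹ : G) : Equiv.Perm (Fin N)) (ciS7) :=
  hyb_inv hO code_S7 (by decide +kernel)
/-- A strong generator. -/
noncomputable def S8 : G := S6 * (S5 * (S6 * (S5 * (S5))))
/-- The code of a strong generator. -/
noncomputable def cS8 : ℕ → ℕ := hyb OM (ps TK8) (cdOf E (S8 : Equiv.Perm (Fin N)))
/-- The code of the inverse of a strong generator. -/
noncomputable def ciS8 : ℕ → ℕ := hyb OM (ps TIK8) (cdOf E (S8 : Equiv.Perm (Fin N))⁻¹)
set_option maxRecDepth 100000 in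
theorem code_S8 : E.IsCode ((S8 : G) : Equiv.Perm (Fin N)) (cS8) := by
  have h := coe_code_mul code_S6 (coe_code_mul code_S5 (coe_code_mul code_S6 (coe_code_mul code_S5 (code_S5))))
  exact hyb_code hO h (by decide +kernel)
set_option maxRecDepth 100000 in
theorem codei_S8 : E.IsCode ((S8⁻¹ : G) : Equiv.Perm (Fin N)) (ciS8) :=
  hyb_inv hO code_S8 (by decide +kernel)
/-- A strong generator. -/
noncomputable def S9 : G := S6⁻¹ * (S5⁻¹ * (S5⁻¹ * (S6 * (S5 * (S6 * (S6 * (S5)))))))
/-- The code of a strong generator. -/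
noncomputable def cS9 : ℕ → ℕ := hyb OM (ps TK9) (cdOf E (S9 : Equiv.Perm (Fin N)))
/-- The code of the inverse of a strong generator. -/
noncomputable def ciS9 : ℕ → ℕ := hyb OM (ps TIK9) (cdOf E (S9 : Equiv.Perm (Fin N))⁻¹)
set_option maxRecDepth 100000 in
theorem code_S9 : E.IsCode ((S9 : G) : Equiv.Perm (Fin N)) (cS9) := by
  have h := coe_code_mul codei_S6 (coe_code_mul codei_S5 (coe_code_mul codei_S5 (coe_code_mul code_S6 (coe_code_mul code_S5 (coe_code_mul code_S6 (coe_code_mul code_S6 (code_S5)))))))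
  exact hyb_code hO h (by decide +kernel)
set_option maxRecDepth 100000 in
theorem codei_S9 : E.IsCode ((S9⁻¹ : G) : Equiv.Perm (Fin N)) (ciS9) :=
  hyb_inv hO code_S9 (by decide +kernel)
/-- A strong generator. -/
noncomputable def S10 : G := S8⁻¹ * (S9)
/-- The code of a strong generator. -/
noncomputable def cS10 : ℕ → ℕ := hyb OM (ps TK10) (cdOf E (S10 : Equiv.Perm (Fin N)))
/-- The code of the inverse of a strong generator. -/
noncomputable def ciS10 : ℕ → ℕ := hyb OM (ps TIK10) (cdOf E (S10 : Equiv.Perm (Fin N))⁻¹)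
set_option maxRecDepth 100000 in
theorem code_S10 : E.IsCode ((S10 : G) : Equiv.Perm (Fin N)) (cS10) := by
  have h := coe_code_mul codei_S8 (code_S9)
  exact hyb_code hO h (by decide +kernel)
set_option maxRecDepth 100000 in
theorem codei_S10 : E.IsCode ((S10⁻¹ : G) : Equiv.Perm (Fin N)) (ciS10) :=
  hyb_inv hO code_S10 (by decide +kernel)
/-- A strong generator. -/
noncomputable def S11 : G := S7⁻¹ * (S9 * (S7))
/-- The code of a strong generator. -/
noncomputable def cS11 : ℕ → ℕ := hyb OM (ps TK11) (cdOf E (S11 : Equiv.Perm (Fin N)))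
/-- The code of the inverse of a strong generator. -/
noncomputable def ciS11 : ℕ → ℕ := hyb OM (ps TIK11) (cdOf E (S11 : Equiv.Perm (Fin N))⁻¹)
set_option maxRecDepth 100000 in
theorem code_S11 : E.IsCode ((S11 : G) : Equiv.Perm (Fin N)) (cS11) := by
  have h := coe_code_mul codei_S7 (coe_code_mul code_S9 (code_S7))
  exact hyb_code hO h (by decide +kernel)
set_option maxRecDepth 100000 in
theorem codei_S11 : E.IsCode ((S11⁻¹ : G) : Equiv.Perm (Fin N)) (ciS11) :=
  hyb_inv hO code_S11 (by decide +kernel)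
/-- A strong generator. -/
noncomputable def S12 : G := S10
/-- The code of a strong generator. -/
noncomputable def cS12 : ℕ → ℕ := hyb OM (ps TK12) (cdOf E (S12 : Equiv.Perm (Fin N)))
/-- The code of the inverse of a strong generator. -/
noncomputable def ciS12 : ℕ → ℕ := hyb OM (ps TIK12) (cdOf E (S12 : Equiv.Perm (Fin N))⁻¹)
set_option maxRecDepth 100000 in
theorem code_S12 : E.IsCode ((S12 : G) : Equiv.Perm (Fin N)) (cS12) := by
  have h := code_S10
  exact hyb_code hO h (by decide +kernel)
set_option maxRecDepth 100000 in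
theorem codei_S12 : E.IsCode ((S12⁻¹ : G) : Equiv.Perm (Fin N)) (ciS12) :=
  hyb_inv hO code_S12 (by decide +kernel)

/-- The base. -/
def baseAll : List ℕ := [47103, 0, 1, 2, 4, 5, 10, 13, 14, 16, 18, 19, 25, 28, 32, 33, 35, 36, 65, 68, 128, 256, 512, 1024]
/-- The trailing part of the base. -/
def trailL : List ℕ := [13, 14, 16, 18, 19, 25, 28, 32, 33, 35, 36, 65, 68, 128, 256, 512, 1024]

theorem hbl : ∀ b ∈ baseAll, b < N := by decide +kernel
theorem hts : ∀ t ∈ ([] : List (List (ℕ × ℤ))), ∃ v, (t, v) ∈ R.tests := fun t ht => by simp at ht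
/-- The coefficients. -/
noncomputable def Cq (j i : ℕ) : ℤ := (spanC.getD j []).getD i 0
theorem hspan : chkSpan 12 (famB R.tab baseAll ([] : List (List (ℕ × ℤ)))) (baseAll.length + ([] : List (List (ℕ × ℤ))).length) Cq = true := by decide +kernel

theorem based_all : Based E H baseAll := R.based_of (D := 12) (by norm_num) hbl hts hspan
theorem hinj : Function.Injective R.rep := R.rep_inj_of (D := 12) (by norm_num) hbl hts hspan

/-- Generators of a stabiliser. -/
def SS1 : Set (Equiv.Perm (Fin N)) := {(S0 : Equiv.Perm (Fin N)), (S1 : Equiv.Perm (Fin N)), (S2 : Equiv.Perm (Fin N))}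
/-- A stabiliser. -/
def KK1 : Subgroup (Equiv.Perm (Fin N)) := Subgroup.closure SS1
theorem memKK1_0 : (S0 : Equiv.Perm (Fin N)) ∈ KK1 := Subgroup.subset_closure (by simp [SS1])
theorem memKK1_1 : (S1 : Equiv.Perm (Fin N)) ∈ KK1 := Subgroup.subset_closure (by simp [SS1])
theorem memKK1_2 : (S2 : Equiv.Perm (Fin N)) ∈ KK1 := Subgroup.subset_closure (by simp [SS1])
/-- A level. -/
noncomputable def L1 : Lev :=
  { b := 0, D := D_L1, arr := A_L1, w := 21, m := 2097151, mp := 65535, bn := 16, mg := 3, bd := 18,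
    fs := lgetD (fun a => a) [cS0, cS1, cS2], gs := lgetD (fun a => a) [ciS0, ciS1, ciS2] }
theorem gens1 : GensIn E (KK1) L1 := by
  intro k
  match k with
  | 0 => exact ⟨_, memKK1_0, code_S0, codei_S0⟩
  | 1 => exact ⟨_, memKK1_1, code_S1, codei_S1⟩
  | 2 => exact ⟨_, memKK1_2, code_S2, codei_S2⟩
  | (k + 3) =>
    refine ⟨1, (KK1).one_mem, isCode_one E, ?_⟩
    rw [inv_one]
    exact isCode_one E
theorem hS1 : ∀ s ∈ SS1, ∃ k, k < 3 ∧ E.IsCode s (L1.fs k) := by
  rintro s (rfl | rfl | rfl)
  · exact ⟨0, by norm_num, code_S0⟩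
  · exact ⟨1, by norm_num, code_S1⟩
  · exact ⟨2, by norm_num, code_S2⟩
theorem KKH1 : KK1 ≤ H := by
  rw [KK1, Subgroup.closure_le]
  rintro s (rfl | rfl | rfl)
  · exact (S0 : G).2
  · exact (S1 : G).2
  · exact (S2 : G).2

/-- Generators of a stabiliser. -/
def SS2 : Set (Equiv.Perm (Fin N)) := {(S3 : Equiv.Perm (Fin N)), (S4 : Equiv.Perm (Fin N))}
/-- A stabiliser. -/
def KK2 : Subgroup (Equiv.Perm (Fin N)) := Subgroup.closure SS2
theorem memKK2_3 : (S3 : Equiv.Perm (Fin N)) ∈ KK2 := Subgroup.subset_closure (by simp [SS2])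
theorem memKK2_4 : (S4 : Equiv.Perm (Fin N)) ∈ KK2 := Subgroup.subset_closure (by simp [SS2])
/-- A level. -/
noncomputable def L2 : Lev :=
  { b := 1, D := D_L2, arr := A_L2, w := 22, m := 4194303, mp := 65535, bn := 16, mg := 3, bd := 18,
    fs := lgetD (fun a => a) [cS3, cS4], gs := lgetD (fun a => a) [ciS3, ciS4] }
theorem gens2 : GensIn E (KK2) L2 := by
  intro k
  match k with
  | 0 => exact ⟨_, memKK2_3, code_S3, codei_S3⟩
  | 1 => exact ⟨_, memKK2_4, code_S4, codei_S4⟩
  | (k + 2) =>
    refine ⟨1, (KK2).one_mem, isCode_one E, ?_⟩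
    rw [inv_one]
    exact isCode_one E
theorem hS2 : ∀ s ∈ SS2, ∃ k, k < 2 ∧ E.IsCode s (L2.fs k) := by
  rintro s (rfl | rfl)
  · exact ⟨0, by norm_num, code_S3⟩
  · exact ⟨1, by norm_num, code_S4⟩
theorem KKH2 : KK2 ≤ H := by
  rw [KK2, Subgroup.closure_le]
  rintro s (rfl | rfl)
  · exact (S3 : G).2
  · exact (S4 : G).2

/-- Generators of a stabiliser. -/
def SS3 : Set (Equiv.Perm (Fin N)) := {(S5 : Equiv.Perm (Fin N)), (S6 : Equiv.Perm (Fin N))}
/-- A stabiliser. -/
def KK3 : Subgroup (Equiv.Perm (Fin N)) := Subgroup.closure SS3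
theorem memKK3_5 : (S5 : Equiv.Perm (Fin N)) ∈ KK3 := Subgroup.subset_closure (by simp [SS3])
theorem memKK3_6 : (S6 : Equiv.Perm (Fin N)) ∈ KK3 := Subgroup.subset_closure (by simp [SS3])
/-- A level. -/
noncomputable def L3 : Lev :=
  { b := 2, D := D_L3, arr := A_L3, w := 22, m := 4194303, mp := 65535, bn := 16, mg := 3, bd := 18,
    fs := lgetD (fun a => a) [cS5, cS6], gs := lgetD (fun a => a) [ciS5, ciS6] }
theorem gens3 : GensIn E (KK3) L3 := by
  intro k
  match k with
  | 0 => exact ⟨_, memKK3_5, code_S5, codei_S5⟩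
  | 1 => exact ⟨_, memKK3_6, code_S6, codei_S6⟩
  | (k + 2) =>
    refine ⟨1, (KK3).one_mem, isCode_one E, ?_⟩
    rw [inv_one]
    exact isCode_one E
theorem hS3 : ∀ s ∈ SS3, ∃ k, k < 2 ∧ E.IsCode s (L3.fs k) := by
  rintro s (rfl | rfl)
  · exact ⟨0, by norm_num, code_S5⟩
  · exact ⟨1, by norm_num, code_S6⟩
theorem KKH3 : KK3 ≤ H := by
  rw [KK3, Subgroup.closure_le]
  rintro s (rfl | rfl)
  · exact (S5 : G).2
  · exact (S6 : G).2

/-- Generators of a stabiliser. -/
def SS4 : Set (Equiv.Perm (Fin N)) := {(S7 : Equiv.Perm (Fin N)), (S8 : Equiv.Perm (Fin N)), (S9 : Equiv.Perm (Fin N))}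
/-- A stabiliser. -/
def KK4 : Subgroup (Equiv.Perm (Fin N)) := Subgroup.closure SS4
theorem memKK4_7 : (S7 : Equiv.Perm (Fin N)) ∈ KK4 := Subgroup.subset_closure (by simp [SS4])
theorem memKK4_8 : (S8 : Equiv.Perm (Fin N)) ∈ KK4 := Subgroup.subset_closure (by simp [SS4])
theorem memKK4_9 : (S9 : Equiv.Perm (Fin N)) ∈ KK4 := Subgroup.subset_closure (by simp [SS4])
/-- A level. -/
noncomputable def L4 : Lev :=
  { b := 4, D := D_L4, arr := A_L4, w := 20, m := 1048575, mp := 65535, bn := 16, mg := 3, bd := 18,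
    fs := lgetD (fun a => a) [cS7, cS8, cS9], gs := lgetD (fun a => a) [ciS7, ciS8, ciS9] }
theorem gens4 : GensIn E (KK4) L4 := by
  intro k
  match k with
  | 0 => exact ⟨_, memKK4_7, code_S7, codei_S7⟩
  | 1 => exact ⟨_, memKK4_8, code_S8, codei_S8⟩
  | 2 => exact ⟨_, memKK4_9, code_S9, codei_S9⟩
  | (k + 3) =>
    refine ⟨1, (KK4).one_mem, isCode_one E, ?_⟩
    rw [inv_one]
    exact isCode_one E
theorem hS4 : ∀ s ∈ SS4, ∃ k, k < 3 ∧ E.IsCode s (L4.fs k) := by
  rintro s (rfl | rfl | rfl)
  · exact ⟨0, by norm_num, code_S7⟩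
  · exact ⟨1, by norm_num, code_S8⟩
  · exact ⟨2, by norm_num, code_S9⟩
theorem KKH4 : KK4 ≤ H := by
  rw [KK4, Subgroup.closure_le]
  rintro s (rfl | rfl | rfl)
  · exact (S7 : G).2
  · exact (S8 : G).2
  · exact (S9 : G).2

/-- Generators of a stabiliser. -/
def SS5 : Set (Equiv.Perm (Fin N)) := {(S10 : Equiv.Perm (Fin N)), (S11 : Equiv.Perm (Fin N))}
/-- A stabiliser. -/
def KK5 : Subgroup (Equiv.Perm (Fin N)) := Subgroup.closure SS5
theorem memKK5_10 : (S10 : Equiv.Perm (Fin N)) ∈ KK5 := Subgroup.subset_closure (by simp [SS5])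
theorem memKK5_11 : (S11 : Equiv.Perm (Fin N)) ∈ KK5 := Subgroup.subset_closure (by simp [SS5])
/-- A level. -/
noncomputable def L5 : Lev :=
  { b := 5, D := D_L5, arr := A_L5, w := 20, m := 1048575, mp := 65535, bn := 16, mg := 3, bd := 18,
    fs := lgetD (fun a => a) [cS10, cS11], gs := lgetD (fun a => a) [ciS10, ciS11] }
theorem gens5 : GensIn E (KK5) L5 := by
  intro k
  match k with
  | 0 => exact ⟨_, memKK5_10, code_S10, codei_S10⟩
  | 1 => exact ⟨_, memKK5_11, code_S11, codei_S11⟩
  | (k + 2) =>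
    refine ⟨1, (KK5).one_mem, isCode_one E, ?_⟩
    rw [inv_one]
    exact isCode_one E
theorem hS5 : ∀ s ∈ SS5, ∃ k, k < 2 ∧ E.IsCode s (L5.fs k) := by
  rintro s (rfl | rfl)
  · exact ⟨0, by norm_num, code_S10⟩
  · exact ⟨1, by norm_num, code_S11⟩
theorem KKH5 : KK5 ≤ H := by
  rw [KK5, Subgroup.closure_le]
  rintro s (rfl | rfl)
  · exact (S10 : G).2
  · exact (S11 : G).2

/-- Generators of a stabiliser. -/
def SS6 : Set (Equiv.Perm (Fin N)) := {(S12 : Equiv.Perm (Fin N))}
/-- A stabiliser. -/
def KK6 : Subgroup (Equiv.Perm (Fin N)) := Subgroup.closure SS6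
theorem memKK6_12 : (S12 : Equiv.Perm (Fin N)) ∈ KK6 := Subgroup.subset_closure (by simp [SS6])
/-- A level. -/
noncomputable def L6 : Lev :=
  { b := 10, D := D_L6, arr := A_L6, w := 20, m := 1048575, mp := 65535, bn := 16, mg := 3, bd := 18,
    fs := lgetD (fun a => a) [cS12], gs := lgetD (fun a => a) [ciS12] }
theorem gens6 : GensIn E (KK6) L6 := by
  intro k
  match k with
  | 0 => exact ⟨_, memKK6_12, code_S12, codei_S12⟩
  | (k + 1) =>
    refine ⟨1, (KK6).one_mem, isCode_one E, ?_⟩
    rw [inv_one]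
    exact isCode_one E
theorem hS6 : ∀ s ∈ SS6, ∃ k, k < 1 ∧ E.IsCode s (L6.fs k) := by
  rintro s (rfl)
  · exact ⟨0, by norm_num, code_S12⟩
theorem KKH6 : KK6 ≤ H := by
  rw [KK6, Subgroup.closure_le]
  rintro s (rfl)
  · exact (S12 : G).2

theorem tree6 : L6.treeOK N = true := by decide +kernel
/-- The tail of the chain. -/
noncomputable def chTail6 : List Lev := trailL.map triv
set_option maxRecDepth 100000 in
theorem sch6 : schOK N L6 chTail6 1 = true := by decide +kernel
theorem le6 : (⊥ : Subgroup (Equiv.Perm (Fin N))) ≤ KK6 := bot_le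
theorem fix6 : ∀ σ ∈ (⊥ : Subgroup (Equiv.Perm (Fin N))), σ (E.pt 10) = E.pt 10 := by
  intro σ hσ
  rw [Subgroup.mem_bot.1 hσ]
  rfl
theorem kpre6 : ∀ τ ∈ KK6, ∀ x ∈ [47103, 0, 1, 2, 4, 5], τ (E.pt x) = E.pt x := by
  apply closure_fix_list
  rintro s (rfl)
  · exact fix_list_of_code code_S12 (by decide +kernel) (by decide +kernel)
theorem lev6 : LevelSem E (KK6) (⊥) L6 :=
  levelS (A := H) (S := SS6) (ng := 1) (by decide +kernel) rfl hS6 gens6 tree6 (by decide +kernel) (by decide +kernel)
    (chainTriv (E := E) trailL (by decide +kernel)) le6 fix6 [47103, 0, 1, 2, 4, 5] ((by decide +kernel : [47103, 0, 1, 2, 4, 5] ++ L6.b :: basesOf chTail6 = baseAll) ▸ based_all) KKH6 kpre6 sch6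
theorem ch6 : ChainSem E (KK6) (L6 :: chTail6) := ⟨_, lev6, (chainTriv (E := E) trailL (by decide +kernel))⟩

theorem tree5 : L5.treeOK N = true := by decide +kernel
/-- The tail of the chain. -/
noncomputable def chTail5 : List Lev := L6 :: chTail6
set_option maxRecDepth 100000 in
theorem sch5 : schOK N L5 chTail5 2 = true := by decide +kernel
theorem le5 : KK6 ≤ KK5 := by
  rw [KK6, Subgroup.closure_le]
  rintro s (rfl)
  · exact memKK5_10
theorem fix5 : ∀ σ ∈ KK6, σ (E.pt 5) = E.pt 5 := by
  apply closure_fix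
  rintro s (rfl)
  · exact fix_of_code code_S12 (by norm_num) (by decide +kernel)
theorem kpre5 : ∀ τ ∈ KK5, ∀ x ∈ [47103, 0, 1, 2, 4], τ (E.pt x) = E.pt x := by
  apply closure_fix_list
  rintro s (rfl | rfl)
  · exact fix_list_of_code code_S10 (by decide +kernel) (by decide +kernel)
  · exact fix_list_of_code code_S11 (by decide +kernel) (by decide +kernel)
theorem lev5 : LevelSem E (KK5) (KK6) L5 :=
  levelS (A := H) (S := SS5) (ng := 2) (by decide +kernel) rfl hS5 gens5 tree5 (by decide +kernel) (by decide +kernel)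
    ch6 le5 fix5 [47103, 0, 1, 2, 4] ((by decide +kernel : [47103, 0, 1, 2, 4] ++ L5.b :: basesOf chTail5 = baseAll) ▸ based_all) KKH5 kpre5 sch5
theorem ch5 : ChainSem E (KK5) (L5 :: chTail5) := ⟨_, lev5, ch6⟩

theorem tree4 : L4.treeOK N = true := by decide +kernel
/-- The tail of the chain. -/
noncomputable def chTail4 : List Lev := L5 :: chTail5
set_option maxRecDepth 100000 in
theorem sch4 : schOK N L4 chTail4 3 = true := by decide +kernel
theorem le4 : KK5 ≤ KK4 := by
  rw [KK5, Subgroup.closure_le]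
  rintro s (rfl | rfl)
  · exact (KK4).mul_mem ((KK4).inv_mem memKK4_8) (memKK4_9)
  · exact (KK4).mul_mem ((KK4).inv_mem memKK4_7) ((KK4).mul_mem (memKK4_9) (memKK4_7))
theorem fix4 : ∀ σ ∈ KK5, σ (E.pt 4) = E.pt 4 := by
  apply closure_fix
  rintro s (rfl | rfl)
  · exact fix_of_code code_S10 (by norm_num) (by decide +kernel)
  · exact fix_of_code code_S11 (by norm_num) (by decide +kernel)
theorem kpre4 : ∀ τ ∈ KK4, ∀ x ∈ [47103, 0, 1, 2], τ (E.pt x) = E.pt x := by
  apply closure_fix_list
  rintro s (rfl | rfl | rfl)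
  · exact fix_list_of_code code_S7 (by decide +kernel) (by decide +kernel)
  · exact fix_list_of_code code_S8 (by decide +kernel) (by decide +kernel)
  · exact fix_list_of_code code_S9 (by decide +kernel) (by decide +kernel)
theorem lev4 : LevelSem E (KK4) (KK5) L4 :=
  levelS (A := H) (S := SS4) (ng := 3) (by decide +kernel) rfl hS4 gens4 tree4 (by decide +kernel) (by decide +kernel)
    ch5 le4 fix4 [47103, 0, 1, 2] ((by decide +kernel : [47103, 0, 1, 2] ++ L4.b :: basesOf chTail4 = baseAll) ▸ based_all) KKH4 kpre4 sch4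
theorem ch4 : ChainSem E (KK4) (L4 :: chTail4) := ⟨_, lev4, ch5⟩

theorem tree3 : L3.treeOK N = true := by decide +kernel
/-- The tail of the chain. -/
noncomputable def chTail3 : List Lev := L4 :: chTail4
set_option maxRecDepth 100000 in
theorem sch3_0 : chunk (schG N L3 chTail3 2) 2048 0 = true := by decide +kernel
set_option maxRecDepth 100000 in
theorem sch3_1 : chunk (schG N L3 chTail3 2) 2048 1 = true := by decide +kernel
set_option maxRecDepth 100000 in
theorem sch3_2 : chunk (schG N L3 chTail3 2) 2048 2 = true := by decide +kernel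
set_option maxRecDepth 100000 in
theorem sch3_3 : chunk (schG N L3 chTail3 2) 2048 3 = true := by decide +kernel
set_option maxRecDepth 100000 in
theorem sch3_4 : chunk (schG N L3 chTail3 2) 2048 4 = true := by decide +kernel
set_option maxRecDepth 100000 in
theorem sch3_5 : chunk (schG N L3 chTail3 2) 2048 5 = true := by decide +kernel
set_option maxRecDepth 100000 in
theorem sch3_6 : chunk (schG N L3 chTail3 2) 2048 6 = true := by decide +kernel
set_option maxRecDepth 100000 in
theorem sch3_7 : chunk (schG N L3 chTail3 2) 2048 7 = true := by decide +kernel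
set_option maxRecDepth 100000 in
theorem sch3_8 : chunk (schG N L3 chTail3 2) 2048 8 = true := by decide +kernel
set_option maxRecDepth 100000 in
theorem sch3_9 : chunk (schG N L3 chTail3 2) 2048 9 = true := by decide +kernel
set_option maxRecDepth 100000 in
theorem sch3_10 : chunk (schG N L3 chTail3 2) 2048 10 = true := by decide +kernel
set_option maxRecDepth 100000 in
theorem sch3_11 : chunk (schG N L3 chTail3 2) 2048 11 = true := by decide +kernel
set_option maxRecDepth 100000 in
theorem sch3_12 : chunk (schG N L3 chTail3 2) 2048 12 = true := by decide +kernel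
set_option maxRecDepth 100000 in
theorem sch3_13 : chunk (schG N L3 chTail3 2) 2048 13 = true := by decide +kernel
set_option maxRecDepth 100000 in
theorem sch3_14 : chunk (schG N L3 chTail3 2) 2048 14 = true := by decide +kernel
set_option maxRecDepth 100000 in
theorem sch3_15 : chunk (schG N L3 chTail3 2) 2048 15 = true := by decide +kernel
set_option maxRecDepth 100000 in
theorem sch3_16 : chunk (schG N L3 chTail3 2) 2048 16 = true := by decide +kernel
set_option maxRecDepth 100000 in
theorem sch3_17 : chunk (schG N L3 chTail3 2) 2048 17 = true := by decide +kernel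
set_option maxRecDepth 100000 in
theorem sch3_18 : chunk (schG N L3 chTail3 2) 2048 18 = true := by decide +kernel
set_option maxRecDepth 100000 in
theorem sch3_19 : chunk (schG N L3 chTail3 2) 2048 19 = true := by decide +kernel
set_option maxRecDepth 100000 in
theorem sch3_20 : chunk (schG N L3 chTail3 2) 2048 20 = true := by decide +kernel
set_option maxRecDepth 100000 in
theorem sch3_21 : chunk (schG N L3 chTail3 2) 2048 21 = true := by decide +kernel
set_option maxRecDepth 100000 in
theorem sch3_22 : chunk (schG N L3 chTail3 2) 2048 22 = true := by decide +kernel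
theorem sch3 : schOK N L3 chTail3 2 = true :=
  schOK_of_chunks (m := 23) (s := 2048) (by norm_num) (fun c hc => by
    interval_cases c
    · exact sch3_0
    · exact sch3_1
    · exact sch3_2
    · exact sch3_3
    · exact sch3_4
    · exact sch3_5
    · exact sch3_6
    · exact sch3_7
    · exact sch3_8
    · exact sch3_9
    · exact sch3_10
    · exact sch3_11
    · exact sch3_12
    · exact sch3_13
    · exact sch3_14
    · exact sch3_15
    · exact sch3_16
    · exact sch3_17
    · exact sch3_18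
    · exact sch3_19
    · exact sch3_20
    · exact sch3_21
    · exact sch3_22
  )
theorem le3 : KK4 ≤ KK3 := by
  rw [KK4, Subgroup.closure_le]
  rintro s (rfl | rfl | rfl)
  · exact (KK3).mul_mem ((KK3).inv_mem memKK3_6) ((KK3).mul_mem ((KK3).inv_mem memKK3_6) ((KK3).mul_mem (memKK3_5) ((KK3).mul_mem (memKK3_5) (memKK3_5))))
  · exact (KK3).mul_mem (memKK3_6) ((KK3).mul_mem (memKK3_5) ((KK3).mul_mem (memKK3_6) ((KK3).mul_mem (memKK3_5) (memKK3_5))))
  · exact (KK3).mul_mem ((KK3).inv_mem memKK3_6) ((KK3).mul_mem ((KK3).inv_mem memKK3_5) ((KK3).mul_mem ((KK3).inv_mem memKK3_5) ((KK3).mul_mem (memKK3_6) ((KK3).mul_mem (memKK3_5) ((KK3).mul_mem (memKK3_6) ((KK3).mul_mem (memKK3_6) (memKK3_5)))))))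
theorem fix3 : ∀ σ ∈ KK4, σ (E.pt 2) = E.pt 2 := by
  apply closure_fix
  rintro s (rfl | rfl | rfl)
  · exact fix_of_code code_S7 (by norm_num) (by decide +kernel)
  · exact fix_of_code code_S8 (by norm_num) (by decide +kernel)
  · exact fix_of_code code_S9 (by norm_num) (by decide +kernel)
theorem kpre3 : ∀ τ ∈ KK3, ∀ x ∈ [47103, 0, 1], τ (E.pt x) = E.pt x := by
  apply closure_fix_list
  rintro s (rfl | rfl)
  · exact fix_list_of_code code_S5 (by decide +kernel) (by decide +kernel)
  · exact fix_list_of_code code_S6 (by decide +kernel) (by decide +kernel)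
theorem lev3 : LevelSem E (KK3) (KK4) L3 :=
  levelS (A := H) (S := SS3) (ng := 2) (by decide +kernel) rfl hS3 gens3 tree3 (by decide +kernel) (by decide +kernel)
    ch4 le3 fix3 [47103, 0, 1] ((by decide +kernel : [47103, 0, 1] ++ L3.b :: basesOf chTail3 = baseAll) ▸ based_all) KKH3 kpre3 sch3
theorem ch3 : ChainSem E (KK3) (L3 :: chTail3) := ⟨_, lev3, ch4⟩

theorem tree2 : L2.treeOK N = true := by decide +kernel
/-- The tail of the chain. -/
noncomputable def chTail2 : List Lev := L3 :: chTail3
set_option maxRecDepth 100000 in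
theorem sch2_0 : chunk (schG N L2 chTail2 2) 2048 0 = true := by decide +kernel
set_option maxRecDepth 100000 in
theorem sch2_1 : chunk (schG N L2 chTail2 2) 2048 1 = true := by decide +kernel
set_option maxRecDepth 100000 in
theorem sch2_2 : chunk (schG N L2 chTail2 2) 2048 2 = true := by decide +kernel
set_option maxRecDepth 100000 in
theorem sch2_3 : chunk (schG N L2 chTail2 2) 2048 3 = true := by decide +kernel
set_option maxRecDepth 100000 in
theorem sch2_4 : chunk (schG N L2 chTail2 2) 2048 4 = true := by decide +kernel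
set_option maxRecDepth 100000 in
theorem sch2_5 : chunk (schG N L2 chTail2 2) 2048 5 = true := by decide +kernel
set_option maxRecDepth 100000 in
theorem sch2_6 : chunk (schG N L2 chTail2 2) 2048 6 = true := by decide +kernel
set_option maxRecDepth 100000 in
theorem sch2_7 : chunk (schG N L2 chTail2 2) 2048 7 = true := by decide +kernel
set_option maxRecDepth 100000 in
theorem sch2_8 : chunk (schG N L2 chTail2 2) 2048 8 = true := by decide +kernel
set_option maxRecDepth 100000 in
theorem sch2_9 : chunk (schG N L2 chTail2 2) 2048 9 = true := by decide +kernel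
set_option maxRecDepth 100000 in
theorem sch2_10 : chunk (schG N L2 chTail2 2) 2048 10 = true := by decide +kernel
set_option maxRecDepth 100000 in
theorem sch2_11 : chunk (schG N L2 chTail2 2) 2048 11 = true := by decide +kernel
set_option maxRecDepth 100000 in
theorem sch2_12 : chunk (schG N L2 chTail2 2) 2048 12 = true := by decide +kernel
set_option maxRecDepth 100000 in
theorem sch2_13 : chunk (schG N L2 chTail2 2) 2048 13 = true := by decide +kernel
set_option maxRecDepth 100000 in
theorem sch2_14 : chunk (schG N L2 chTail2 2) 2048 14 = true := by decide +kernel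
set_option maxRecDepth 100000 in
theorem sch2_15 : chunk (schG N L2 chTail2 2) 2048 15 = true := by decide +kernel
set_option maxRecDepth 100000 in
theorem sch2_16 : chunk (schG N L2 chTail2 2) 2048 16 = true := by decide +kernel
set_option maxRecDepth 100000 in
theorem sch2_17 : chunk (schG N L2 chTail2 2) 2048 17 = true := by decide +kernel
set_option maxRecDepth 100000 in
theorem sch2_18 : chunk (schG N L2 chTail2 2) 2048 18 = true := by decide +kernel
set_option maxRecDepth 100000 in
theorem sch2_19 : chunk (schG N L2 chTail2 2) 2048 19 = true := by decide +kernel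
set_option maxRecDepth 100000 in
theorem sch2_20 : chunk (schG N L2 chTail2 2) 2048 20 = true := by decide +kernel
set_option maxRecDepth 100000 in
theorem sch2_21 : chunk (schG N L2 chTail2 2) 2048 21 = true := by decide +kernel
set_option maxRecDepth 100000 in
theorem sch2_22 : chunk (schG N L2 chTail2 2) 2048 22 = true := by decide +kernel
theorem sch2 : schOK N L2 chTail2 2 = true :=
  schOK_of_chunks (m := 23) (s := 2048) (by norm_num) (fun c hc => by
    interval_cases c
    · exact sch2_0
    · exact sch2_1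
    · exact sch2_2
    · exact sch2_3
    · exact sch2_4
    · exact sch2_5
    · exact sch2_6
    · exact sch2_7
    · exact sch2_8
    · exact sch2_9
    · exact sch2_10
    · exact sch2_11
    · exact sch2_12
    · exact sch2_13
    · exact sch2_14
    · exact sch2_15
    · exact sch2_16
    · exact sch2_17
    · exact sch2_18
    · exact sch2_19
    · exact sch2_20
    · exact sch2_21
    · exact sch2_22
  )
theorem le2 : KK3 ≤ KK2 := by
  rw [KK3, Subgroup.closure_le]
  rintro s (rfl | rfl)
  · exact (KK2).mul_mem ((KK2).inv_mem memKK2_4) ((KK2).mul_mem (memKK2_3) ((KK2).mul_mem (memKK2_4) ((KK2).mul_mem (memKK2_3) ((KK2).mul_mem (memKK2_3) (memKK2_4)))))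
  · exact (KK2).mul_mem (memKK2_4) ((KK2).mul_mem (memKK2_4) ((KK2).mul_mem (memKK2_3) ((KK2).mul_mem (memKK2_3) ((KK2).mul_mem (memKK2_3) (memKK2_3)))))
theorem fix2 : ∀ σ ∈ KK3, σ (E.pt 1) = E.pt 1 := by
  apply closure_fix
  rintro s (rfl | rfl)
  · exact fix_of_code code_S5 (by norm_num) (by decide +kernel)
  · exact fix_of_code code_S6 (by norm_num) (by decide +kernel)
theorem kpre2 : ∀ τ ∈ KK2, ∀ x ∈ [47103, 0], τ (E.pt x) = E.pt x := by
  apply closure_fix_list
  rintro s (rfl | rfl)
  · exact fix_list_of_code code_S3 (by decide +kernel) (by decide +kernel)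
  · exact fix_list_of_code code_S4 (by decide +kernel) (by decide +kernel)
theorem lev2 : LevelSem E (KK2) (KK3) L2 :=
  levelS (A := H) (S := SS2) (ng := 2) (by decide +kernel) rfl hS2 gens2 tree2 (by decide +kernel) (by decide +kernel)
    ch3 le2 fix2 [47103, 0] ((by decide +kernel : [47103, 0] ++ L2.b :: basesOf chTail2 = baseAll) ▸ based_all) KKH2 kpre2 sch2
theorem ch2 : ChainSem E (KK2) (L2 :: chTail2) := ⟨_, lev2, ch3⟩

theorem tree1 : L1.treeOK N = true := by decide +kernel
/-- The tail of the chain. -/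
noncomputable def chTail1 : List Lev := L2 :: chTail2
set_option maxRecDepth 100000 in
theorem sch1_0 : chunk (schG N L1 chTail1 3) 2048 0 = true := by decide +kernel
set_option maxRecDepth 100000 in
theorem sch1_1 : chunk (schG N L1 chTail1 3) 2048 1 = true := by decide +kernel
set_option maxRecDepth 100000 in
theorem sch1_2 : chunk (schG N L1 chTail1 3) 2048 2 = true := by decide +kernel
set_option maxRecDepth 100000 in
theorem sch1_3 : chunk (schG N L1 chTail1 3) 2048 3 = true := by decide +kernel
set_option maxRecDepth 100000 in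
theorem sch1_4 : chunk (schG N L1 chTail1 3) 2048 4 = true := by decide +kernel
set_option maxRecDepth 100000 in
theorem sch1_5 : chunk (schG N L1 chTail1 3) 2048 5 = true := by decide +kernel
set_option maxRecDepth 100000 in
theorem sch1_6 : chunk (schG N L1 chTail1 3) 2048 6 = true := by decide +kernel
set_option maxRecDepth 100000 in
theorem sch1_7 : chunk (schG N L1 chTail1 3) 2048 7 = true := by decide +kernel
set_option maxRecDepth 100000 in
theorem sch1_8 : chunk (schG N L1 chTail1 3) 2048 8 = true := by decide +kernel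
set_option maxRecDepth 100000 in
theorem sch1_9 : chunk (schG N L1 chTail1 3) 2048 9 = true := by decide +kernel
set_option maxRecDepth 100000 in
theorem sch1_10 : chunk (schG N L1 chTail1 3) 2048 10 = true := by decide +kernel
set_option maxRecDepth 100000 in
theorem sch1_11 : chunk (schG N L1 chTail1 3) 2048 11 = true := by decide +kernel
set_option maxRecDepth 100000 in
theorem sch1_12 : chunk (schG N L1 chTail1 3) 2048 12 = true := by decide +kernel
set_option maxRecDepth 100000 in
theorem sch1_13 : chunk (schG N L1 chTail1 3) 2048 13 = true := by decide +kernel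
set_option maxRecDepth 100000 in
theorem sch1_14 : chunk (schG N L1 chTail1 3) 2048 14 = true := by decide +kernel
set_option maxRecDepth 100000 in
theorem sch1_15 : chunk (schG N L1 chTail1 3) 2048 15 = true := by decide +kernel
set_option maxRecDepth 100000 in
theorem sch1_16 : chunk (schG N L1 chTail1 3) 2048 16 = true := by decide +kernel
set_option maxRecDepth 100000 in
theorem sch1_17 : chunk (schG N L1 chTail1 3) 2048 17 = true := by decide +kernel
set_option maxRecDepth 100000 in
theorem sch1_18 : chunk (schG N L1 chTail1 3) 2048 18 = true := by decide +kernel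
set_option maxRecDepth 100000 in
theorem sch1_19 : chunk (schG N L1 chTail1 3) 2048 19 = true := by decide +kernel
set_option maxRecDepth 100000 in
theorem sch1_20 : chunk (schG N L1 chTail1 3) 2048 20 = true := by decide +kernel
set_option maxRecDepth 100000 in
theorem sch1_21 : chunk (schG N L1 chTail1 3) 2048 21 = true := by decide +kernel
set_option maxRecDepth 100000 in
theorem sch1_22 : chunk (schG N L1 chTail1 3) 2048 22 = true := by decide +kernel
theorem sch1 : schOK N L1 chTail1 3 = true :=
  schOK_of_chunks (m := 23) (s := 2048) (by norm_num) (fun c hc => by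
    interval_cases c
    · exact sch1_0
    · exact sch1_1
    · exact sch1_2
    · exact sch1_3
    · exact sch1_4
    · exact sch1_5
    · exact sch1_6
    · exact sch1_7
    · exact sch1_8
    · exact sch1_9
    · exact sch1_10
    · exact sch1_11
    · exact sch1_12
    · exact sch1_13
    · exact sch1_14
    · exact sch1_15
    · exact sch1_16
    · exact sch1_17
    · exact sch1_18
    · exact sch1_19
    · exact sch1_20
    · exact sch1_21
    · exact sch1_22
  )
theorem le1 : KK2 ≤ KK1 := by
  rw [KK2, Subgroup.closure_le]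
  rintro s (rfl | rfl)
  · exact (KK1).mul_mem ((KK1).inv_mem memKK1_0) ((KK1).mul_mem ((KK1).inv_mem memKK1_1) ((KK1).mul_mem (memKK1_2) (memKK1_0)))
  · exact (KK1).mul_mem ((KK1).inv_mem memKK1_1) ((KK1).mul_mem (memKK1_2) ((KK1).mul_mem (memKK1_0) (memKK1_2)))
theorem fix1 : ∀ σ ∈ KK2, σ (E.pt 0) = E.pt 0 := by
  apply closure_fix
  rintro s (rfl | rfl)
  · exact fix_of_code code_S3 (by norm_num) (by decide +kernel)
  · exact fix_of_code code_S4 (by norm_num) (by decide +kernel)
theorem kpre1 : ∀ τ ∈ KK1, ∀ x ∈ [47103], τ (E.pt x) = E.pt x := by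
  apply closure_fix_list
  rintro s (rfl | rfl | rfl)
  · exact fix_list_of_code code_S0 (by decide +kernel) (by decide +kernel)
  · exact fix_list_of_code code_S1 (by decide +kernel) (by decide +kernel)
  · exact fix_list_of_code code_S2 (by decide +kernel) (by decide +kernel)
theorem lev1 : LevelSem E (KK1) (KK2) L1 :=
  levelS (A := H) (S := SS1) (ng := 3) (by decide +kernel) rfl hS1 gens1 tree1 (by decide +kernel) (by decide +kernel)
    ch2 le1 fix1 [47103] ((by decide +kernel : [47103] ++ L1.b :: basesOf chTail1 = baseAll) ▸ based_all) KKH1 kpre1 sch1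
theorem ch1 : ChainSem E (KK1) (L1 :: chTail1) := ⟨_, lev1, ch2⟩

theorem chF : ChainSem E (KK1) [L1, L2, L3, L4, L5, L6] :=
  ⟨_, lev1, _, lev2, _, lev3, _, lev4, _, lev5, _, lev6, rfl⟩

end Cfsg.Agent.Lib.KnownSimple.Leech.Co2
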