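import Cfsg.Agent.Lib.KnownSimple.Leech.Co2.SrchN1
import Cfsg.Agent.Lib.KnownSimple.Leech.Co2.SrchN22
import Cfsg.Agent.Lib.KnownSimple.Leech.Co2.SrchC

/-!
# The outer automorphism group of the second Conway group
-/

set_option autoImplicit false

namespace Cfsg.Agent.Lib.KnownSimple.Leech.Co2

open Cfsg Cfsg.Spor Cfsg.Agent.Lib.Compute Cfsg.Agent.Lib.Golay Cfsg.Agent.Lib.KnownSimple.PE
open Cfsg.Agent.Lib.KnownSimple Cfsg.Agent.Lib.KnownSimple.AutRigid
open Cfsg.Agent.Lib.KnownSimple.Leech Cfsg.Agent.Lib.KnownSimple.Leech.Co2Data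


theorem sN1 : allBelow gN1 N = true := by
  have h : allBelow gN1 (23 * 2048) = true := allBelow_of_chunks (fun c hc => by
    interval_cases c
    · exact sN1_0
    · exact sN1_1
    · exact sN1_2
    · exact sN1_3
    · exact sN1_4
    · exact sN1_5
    · exact sN1_6
    · exact sN1_7
    · exact sN1_8
    · exact sN1_9
    · exact sN1_10
    · exact sN1_11
    · exact sN1_12
    · exact sN1_13
    · exact sN1_14
    · exact sN1_15
    · exact sN1_16
    · exact sN1_17
    · exact sN1_18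
    · exact sN1_19
    · exact sN1_20
    · exact sN1_21
    · exact sN1_22
  )
  exact h
theorem sN22 : allBelow gN22 N = true := by
  have h : allBelow gN22 (23 * 2048) = true := allBelow_of_chunks (fun c hc => by
    interval_cases c
    · exact sN22_0
    · exact sN22_1
    · exact sN22_2
    · exact sN22_3
    · exact sN22_4
    · exact sN22_5
    · exact sN22_6
    · exact sN22_7
    · exact sN22_8
    · exact sN22_9
    · exact sN22_10
    · exact sN22_11
    · exact sN22_12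
    · exact sN22_13
    · exact sN22_14
    · exact sN22_15
    · exact sN22_16
    · exact sN22_17
    · exact sN22_18
    · exact sN22_19
    · exact sN22_20
    · exact sN22_21
    · exact sN22_22
  )
  exact h
theorem sC : allBelow gC N = true := by
  have h : allBelow gC (23 * 2048) = true := allBelow_of_chunks (fun c hc => by
    interval_cases c
    · exact sC_0
    · exact sC_1
    · exact sC_2
    · exact sC_3
    · exact sC_4
    · exact sC_5
    · exact sC_6
    · exact sC_7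
    · exact sC_8
    · exact sC_9
    · exact sC_10
    · exact sC_11
    · exact sC_12
    · exact sC_13
    · exact sC_14
    · exact sC_15
    · exact sC_16
    · exact sC_17
    · exact sC_18
    · exact sC_19
    · exact sC_20
    · exact sC_21
    · exact sC_22
  )
  exact h

theorem hcl (k : ℕ) (hk : ¬ 23 ∣ k) : ∃ j, k * 2 ^ j ≡ 1 [MOD 23] ∨ k * 2 ^ j ≡ 23 - 1 [MOD 23] := by
  have h1 : ∀ a : Fin 23, a.val ≠ 0 → ∃ j : Fin 11, (a.val * 2 ^ j.val) % 23 = 1 ∨ (a.val * 2 ^ j.val) % 23 = 23 - 1 := by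
    decide
  have h2 : k % 23 ≠ 0 := fun h0 => hk (Nat.dvd_of_mod_eq_zero h0)
  obtain ⟨j, h3⟩ := h1 ⟨k % 23, Nat.mod_lt _ (by norm_num)⟩ h2
  refine ⟨j.val, ?_⟩
  rcases h3 with h3 | h3
  · left
    show k * 2 ^ j.val % 23 = 1 % 23
    rw [← Nat.mod_mul_mod]
    exact h3
  · right
    show k * 2 ^ j.val % 23 = (23 - 1) % 23
    rw [← Nat.mod_mul_mod]
    exact h3

theorem hcl' (k : ℕ) (hk : ¬ 23 ∣ k) : ∃ j, ∃ e ∈ [1, 22], k * 2 ^ j ≡ e [MOD 23] := by
  obtain ⟨j, h | h⟩ := hcl k hk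
  · exact ⟨j, 1, by simp, h⟩
  · exact ⟨j, 22, by simp, h⟩

theorem hN0 (j : ℕ) (hj : j ∈ [1, 22]) (g : G) (h : g * w * g⁻¹ = w ^ j) : ∃ a b : ℕ, b < 11 ∧ g = w ^ a * u ^ b := by
  have h3 : (g : Equiv.Perm (Fin N)) * w = ((w ^ j : G) : Equiv.Perm (Fin N)) * g := by
    rw [← h]
    have : g * w = g * w * g⁻¹ * g := by group
    exact congrArg Subtype.val this
  simp only [List.mem_cons, List.not_mem_nil, or_false] at hj
  rcases hj with rfl | rfl
  · obtain ⟨i, _, hi⟩ := mem_list_of_searchO (cE := fun i => ((w ^ i : G) : Equiv.Perm (Fin N)))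
      (cs := csN) (K := 23) grInv g.2 code_D0 (coe_pow_isCode code_D0 _) h3 23 hLsO hbO hcovO
      (fun i _ => (w ^ i : G).2) (fun i _ => coe_pow_isCode code_D0 i) sN1
    refine ⟨i, 0, by norm_num, ?_⟩
    rw [pow_zero, mul_one]
    exact Subtype.ext hi
  · obtain ⟨i, hi0, _⟩ := mem_list_of_searchO (cE := fun _ => (1 : Equiv.Perm (Fin N)))
      (cs := csN) (K := 0) grInv g.2 code_D0 (coe_pow_isCode code_D0 _) h3 23 hLsO hbO hcovO
      (fun i hi => absurd hi (Nat.not_lt_zero i)) (fun i hi => absurd hi (Nat.not_lt_zero i)) sN22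
    exact absurd hi0 (Nat.not_lt_zero i)

theorem hN (g : G) (j : ℕ) (h : g * w * g⁻¹ = w ^ j) : ∃ a b : ℕ, b < 11 ∧ g = w ^ a * u ^ b :=
  hN_of_eps orderOf_w (by norm_num) conj_uw u_pow (by norm_num) [1, 22] hcl' (fun e he g h => hN0 e he g h) g j h

/-- The centraliser of `u`. -/
noncomputable def cE (i : ℕ) : G := u ^ i

theorem code_cE (i : ℕ) : E.IsCode ((cE i : G) : Equiv.Perm (Fin N)) (csC i) := coe_pow_isCode code_D1 i

theorem cE_zero : cE 0 = 1 := by simp [cE]

theorem hCent (c : G) (h : c * u = u * c) : ∃ i, i < 11 ∧ c = cE i := by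
  obtain ⟨i, hi, e⟩ := mem_list_of_searchO (cE := fun i => ((cE i : G) : Equiv.Perm (Fin N))) (cs := csC) (K := 11)
    grInv c.2 code_D1 code_D1 (congrArg Subtype.val h) 11 hLsO hbO hcovO (fun i _ => (cE i : G).2)
    (fun i _ => code_cE i) sC
  exact ⟨i, hi, Subtype.ext e⟩

theorem rel_x₁u : x₁ * u = u ^ 2 * x₁ :=
  eq_of_chk based2 lt2 (coe_code_mul code_D2 code_D1) (coe_code_mul (coe_pow_isCode code_D1 2) code_D2) (by decide +kernel)
theorem conj_x₁u : x₁ * u * x₁⁻¹ = u ^ 2 := by rw [rel_x₁u]; group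

theorem closure_top : Subgroup.closure ({w, u, x₁} : Set G) = ⊤ := by
  rw [eq_top_iff]
  intro g _
  have h1 : (g : Equiv.Perm (Fin N)) ∈ K := by
    rw [← top.1]
    exact g.2
  have h2 : Subgroup.closure (((↑) : G → Equiv.Perm (Fin N)) '' {w, u, x₁}) =
      (Subgroup.closure ({w, u, x₁} : Set G)).map H.subtype := by
    rw [MonoidHom.map_closure]
    rfl
  have h3 : K = Subgroup.closure (((↑) : G → Equiv.Perm (Fin N)) '' {w, u, x₁}) := by
    rw [K, Sx]
    simp [Set.image_insert_eq]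
  rw [h3, h2] at h1
  obtain ⟨g', hg', e⟩ := h1
  have : g' = g := Subtype.ext e
  rwa [← this]

/-- The generators at the first step. -/
noncomputable def gs₁ : ℕ → G := cns w (cns u (fun _ => 1))
/-- Their codes. -/
noncomputable def cs₁ : ℕ → ℕ → ℕ := cns cw (cns cu (fun _ a => a))

theorem cs₁_code (i : ℕ) : E.IsCode ((gs₁ i : G) : Equiv.Perm (Fin N)) (cs₁ i) := by
  match i with
  | 0 => exact code_D0
  | 1 => exact code_D1
  | (k + 2) => exact isCode_one E

/-- The images of the first generators. -/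
noncomputable def cs₃ (e : ℕ) : ℕ → ℕ → ℕ := cns (iterN cw e) (cns cu (fun _ a => a))

theorem cs₃_code (ψ : MulAut G) (e : ℕ) (h1 : ψ w = w ^ e) (h2 : ψ u = u) (i : ℕ) :
    E.IsCode ((ψ (gs₁ i) : G) : Equiv.Perm (Fin N)) (cs₃ e i) := by
  match i with
  | 0 =>
    show E.IsCode ((ψ w : G) : Equiv.Perm (Fin N)) _
    rw [h1]
    exact coe_pow_isCode code_D0 e
  | 1 =>
    show E.IsCode ((ψ u : G) : Equiv.Perm (Fin N)) _
    rw [h2]
    exact code_D1
  | (k + 2) =>
    show E.IsCode ((ψ 1 : G) : Equiv.Perm (Fin N)) (fun a => a)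
    rw [map_one]
    exact isCode_one E

theorem tb1 : tblY (basesOf Ls) cs₁ (cs₃ 1) cx₁ csC tbl1 11 (fun i => [0].contains i) = true := by decide +kernel
theorem tb22 : tblY (basesOf Ls) cs₁ (cs₃ 22) cx₁ csC tbl22 11 (fun i => ([] : List ℕ).contains i) = true := by decide +kernel

theorem key1 (ψ : MulAut G) (h1 : ψ w = w ^ 1) (h2 : ψ u = u) : ψ = 1 := by
  obtain ⟨i, hi, h3⟩ := step_tblY (x := x₁) (y := u) (cE := cE) based2 lt2 ψ hCent conj_x₁u h2 cs₁_code
    (cs₃_code ψ 1 h1 h2) code_D2 code_cE tb1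
  have h4 : i ∈ [0] := by simpa using hi
  simp only [List.mem_cons, List.not_mem_nil, or_false] at h4
  rcases h4 with rfl
  rw [cE_zero, mul_one] at h3
  rw [pow_one] at h1
  apply eq_one_of_fix closure_top
  rintro g (rfl | rfl | rfl)
  · exact h1
  · exact h2
  · exact h3

theorem key22 (ψ : MulAut G) (h1 : ψ w = w ^ 22) (h2 : ψ u = u) : False := by
  obtain ⟨i, hi, h3⟩ := step_tblY (x := x₁) (y := u) (cE := cE) based2 lt2 ψ hCent conj_x₁u h2 cs₁_code
    (cs₃_code ψ 22 h1 h2) code_D2 code_cE tb22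
  have h4 : i ∈ ([] : List ℕ) := by simpa using hi
  simp only [List.not_mem_nil] at h4

theorem card_not : ¬ 23 ^ 2 ∣ Nat.card G := by
  rw [show Nat.card G = 42305421312000 from card_H]
  norm_num

theorem hrb : ∀ b, b < 11 → 2 ^ b ≡ 2 [MOD 23] → b = 1 := by decide
theorem hk₀ : 1 + 1 ≡ 2 * 1 [MOD 23] := by decide

theorem all_inner_G (φ : MulAut G) : φ ∈ Inn G :=
  all_inner (p := 23) (r := 2) (m := 11) (k₀ := 1) (by norm_num) orderOf_w card_not conj_uw u_pow hN hrb hk₀ hcl (by decide) key1 key22 φ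

theorem card_out_G : Nat.card (Out G) = 1 := card_out_eq_one all_inner_G

theorem card_out_Co2 : Nat.card (Out ↥Spor.Co2) = 1 := by
  rw [card_out_congr (equivRange R.rep hinj)]
  exact card_out_G

/-- Every element of the group is a product of the generators. -/
theorem rep_mem_K (g : ↥Spor.Co2) : R.rep g ∈ K := by
  rw [← top.1]
  exact ⟨g, rfl⟩

/-- The generators, in the lattice. -/
theorem gen_Co2 (x : Equiv.Perm LL) (hx : x ∈ Spor.Co2) :
    x ∈ Subgroup.closure ({g0.1, g1.1, g2.1} : Set (Equiv.Perm LL)) := by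
  have h1 := rep_mem_K ⟨x, hx⟩
  have h2 : K = (Subgroup.closure ({g0, g1, g2} : Set ↥Spor.Co2)).map R.rep := by
    rw [MonoidHom.map_closure, K, Sx]
    simp [Set.image_insert_eq]
    rfl
  rw [h2] at h1
  obtain ⟨y, hy, e⟩ := h1
  have h3 : y = ⟨x, hx⟩ := hinj e
  subst h3
  have h4 : Subgroup.closure ((Spor.Co2.subtype) '' ({g0, g1, g2} : Set ↥Spor.Co2)) =
      (Subgroup.closure ({g0, g1, g2} : Set ↥Spor.Co2)).map Spor.Co2.subtype := by
    rw [MonoidHom.map_closure]
  have h5 : x ∈ Subgroup.closure ((Spor.Co2.subtype) '' ({g0, g1, g2} : Set ↥Spor.Co2)) := by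
    rw [h4]
    exact ⟨_, hy, rfl⟩
  have h6 : (Spor.Co2.subtype) '' ({g0, g1, g2} : Set ↥Spor.Co2) = {g0.1, g1.1, g2.1} := by
    simp [Set.image_insert_eq]
  rwa [h6] at h5

end Cfsg.Agent.Lib.KnownSimple.Leech.Co2
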