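import Cfsg.Agent.Lib.KnownSimple.Leech.Co2.Top

/-!
# The second Conway group: the rigidity argument
-/

set_option autoImplicit false

namespace Cfsg.Agent.Lib.KnownSimple.Leech.Co2

open Cfsg Cfsg.Spor Cfsg.Agent.Lib.Compute Cfsg.Agent.Lib.Golay Cfsg.Agent.Lib.KnownSimple.PE
open Cfsg.Agent.Lib.KnownSimple Cfsg.Agent.Lib.KnownSimple.AutRigid
open Cfsg.Agent.Lib.KnownSimple.Leech Cfsg.Agent.Lib.KnownSimple.Leech.Co2Data

/-- The generators of the rigidity argument. -/
noncomputable abbrev w : G := D0
/-- The generators of the rigidity argument. -/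
noncomputable abbrev u : G := D1
/-- The generators of the rigidity argument. -/
noncomputable abbrev x₁ : G := D2

/-- The code of `w`. -/
noncomputable abbrev cw : ℕ → ℕ := pq t0B
/-- The code of `u`. -/
noncomputable abbrev cu : ℕ → ℕ := pq t1B
/-- The code of `x₁`. -/
noncomputable abbrev cx₁ : ℕ → ℕ := pq t2B

theorem based2 : Based E H (basesOf Ls) := based_of_chain chainH
theorem lt2 : ∀ b ∈ basesOf Ls, b < N := bases_lt chainH

/-- The invariant. -/
noncomputable def gr : ℕ → ℕ → ℕ := gramF (fun i => evalP (tab i)) (fun i => evalQ (tab i)) (fun i => evalT (tab i))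
theorem grInv : GramInv E H gr := R.gramInvE

theorem w_pow : w ^ 23 = 1 := eq_of_chk based2 lt2 (coe_pow_isCode code_D0 23) (isCode_one E) (by decide +kernel)
theorem u_pow : u ^ 11 = 1 := eq_of_chk based2 lt2 (coe_pow_isCode code_D1 11) (isCode_one E) (by decide +kernel)

theorem w_ne : w ≠ 1 := fun h => ne_one_of_code code_D0 (i := 0) (by norm_num) (by decide +kernel) (congrArg Subtype.val h)

theorem orderOf_w : orderOf w = 23 := by
  have : Fact (Nat.Prime 23) := ⟨by norm_num⟩
  exact orderOf_eq_prime w_pow w_ne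

theorem rel_uw : u * w = w ^ 2 * u :=
  eq_of_chk based2 lt2 (coe_code_mul code_D1 code_D0) (coe_code_mul (coe_pow_isCode code_D0 2) code_D1) (by decide +kernel)

theorem conj_uw : u * w * u⁻¹ = w ^ 2 := by rw [rel_uw]; group

/-- The lists of points of the levels. -/
noncomputable def LsO : List (Lev × List ℕ) := [(L1, ol1), (L2, ol2), (L3, ol3), (L4, ol4), (L5, ol5), (L6, ol6)]

theorem hcovO : ∀ Lo ∈ LsO, covOK N Lo.1.D Lo.2 = true := by decide +kernel
theorem hLsO : ChainSem E H (L0 :: LsO.map Prod.fst) := chainH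
theorem hbO : basesOf Ls = basesOf (L0 :: LsO.map Prod.fst) := by decide +kernel

/-- The powers of `w`. -/
noncomputable def csN (i : ℕ) : ℕ → ℕ := iterN cw i
/-- The body of the search for the centraliser of `w`. -/
noncomputable def gN1 : ℕ → Bool := topBody gr cw (iterN cw 1) 23 (leafL (basesOf Ls) csN 23) L0 LsO
/-- The body of the search for elements inverting `w`. -/
noncomputable def gN22 : ℕ → Bool := topBody gr cw (iterN cw 22) 23 (leafL (basesOf Ls) csN 0) L0 LsO
/-- The powers of `u`. -/
noncomputable def csC (i : ℕ) : ℕ → ℕ := iterN cu i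
/-- The body of the search for the centraliser of `u`. -/
noncomputable def gC : ℕ → Bool := topBody gr cu cu 11 (leafL (basesOf Ls) csC 11) L0 LsO


end Cfsg.Agent.Lib.KnownSimple.Leech.Co2
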