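import Cfsg.Agent.Lib.KnownSimple.Leech.Co2.RepS

/-!
# The second Conway group acting on 47104 vectors of the lattice
-/

set_option autoImplicit false

namespace Cfsg.Agent.Lib.KnownSimple.Leech.Co2

open Cfsg Cfsg.Spor Cfsg.Agent.Lib.Compute Cfsg.Agent.Lib.Golay Cfsg.Agent.Lib.KnownSimple.PE
open Cfsg.Agent.Lib.KnownSimple.Leech Cfsg.Agent.Lib.KnownSimple.Leech.Co2Data

/-- The test of membership in the lattice. -/
noncomputable def gMem (i : ℕ) : Bool := chkL (vecZ tab i)
/-- The test of the norms and scalar products. -/
noncomputable def gNorm (i : ℕ) : Bool := decide (dotZ tab i i = 32) && testsOK tests (vecZ tab i)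
/-- The test of the search in the table. -/
noncomputable def gInj (i : ℕ) : Bool := Nat.beq (find tab N (pack (vecZ tab i))) i

set_option maxRecDepth 100000 in
theorem cMem0 : chunk gMem 2048 0 = true := by decide +kernel
set_option maxRecDepth 100000 in
theorem cMem1 : chunk gMem 2048 1 = true := by decide +kernel
set_option maxRecDepth 100000 in
theorem cMem2 : chunk gMem 2048 2 = true := by decide +kernel
set_option maxRecDepth 100000 in
theorem cMem3 : chunk gMem 2048 3 = true := by decide +kernel
set_option maxRecDepth 100000 in
theorem cMem4 : chunk gMem 2048 4 = true := by decide +kernel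
set_option maxRecDepth 100000 in
theorem cMem5 : chunk gMem 2048 5 = true := by decide +kernel
set_option maxRecDepth 100000 in
theorem cMem6 : chunk gMem 2048 6 = true := by decide +kernel
set_option maxRecDepth 100000 in
theorem cMem7 : chunk gMem 2048 7 = true := by decide +kernel
set_option maxRecDepth 100000 in
theorem cMem8 : chunk gMem 2048 8 = true := by decide +kernel
set_option maxRecDepth 100000 in
theorem cMem9 : chunk gMem 2048 9 = true := by decide +kernel
set_option maxRecDepth 100000 in
theorem cMem10 : chunk gMem 2048 10 = true := by decide +kernel
set_option maxRecDepth 100000 in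
theorem cMem11 : chunk gMem 2048 11 = true := by decide +kernel
set_option maxRecDepth 100000 in
theorem cMem12 : chunk gMem 2048 12 = true := by decide +kernel
set_option maxRecDepth 100000 in
theorem cMem13 : chunk gMem 2048 13 = true := by decide +kernel
set_option maxRecDepth 100000 in
theorem cMem14 : chunk gMem 2048 14 = true := by decide +kernel
set_option maxRecDepth 100000 in
theorem cMem15 : chunk gMem 2048 15 = true := by decide +kernel
set_option maxRecDepth 100000 in
theorem cMem16 : chunk gMem 2048 16 = true := by decide +kernel
set_option maxRecDepth 100000 in
theorem cMem17 : chunk gMem 2048 17 = true := by decide +kernel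
set_option maxRecDepth 100000 in
theorem cMem18 : chunk gMem 2048 18 = true := by decide +kernel
set_option maxRecDepth 100000 in
theorem cMem19 : chunk gMem 2048 19 = true := by decide +kernel
set_option maxRecDepth 100000 in
theorem cMem20 : chunk gMem 2048 20 = true := by decide +kernel
set_option maxRecDepth 100000 in
theorem cMem21 : chunk gMem 2048 21 = true := by decide +kernel
set_option maxRecDepth 100000 in
theorem cMem22 : chunk gMem 2048 22 = true := by decide +kernel
set_option maxRecDepth 100000 in
theorem cNorm0 : chunk gNorm 2048 0 = true := by decide +kernel
set_option maxRecDepth 100000 in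
theorem cNorm1 : chunk gNorm 2048 1 = true := by decide +kernel
set_option maxRecDepth 100000 in
theorem cNorm2 : chunk gNorm 2048 2 = true := by decide +kernel
set_option maxRecDepth 100000 in
theorem cNorm3 : chunk gNorm 2048 3 = true := by decide +kernel
set_option maxRecDepth 100000 in
theorem cNorm4 : chunk gNorm 2048 4 = true := by decide +kernel
set_option maxRecDepth 100000 in
theorem cNorm5 : chunk gNorm 2048 5 = true := by decide +kernel
set_option maxRecDepth 100000 in
theorem cNorm6 : chunk gNorm 2048 6 = true := by decide +kernel
set_option maxRecDepth 100000 in
theorem cNorm7 : chunk gNorm 2048 7 = true := by decide +kernel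
set_option maxRecDepth 100000 in
theorem cNorm8 : chunk gNorm 2048 8 = true := by decide +kernel
set_option maxRecDepth 100000 in
theorem cNorm9 : chunk gNorm 2048 9 = true := by decide +kernel
set_option maxRecDepth 100000 in
theorem cNorm10 : chunk gNorm 2048 10 = true := by decide +kernel
set_option maxRecDepth 100000 in
theorem cNorm11 : chunk gNorm 2048 11 = true := by decide +kernel
set_option maxRecDepth 100000 in
theorem cNorm12 : chunk gNorm 2048 12 = true := by decide +kernel
set_option maxRecDepth 100000 in
theorem cNorm13 : chunk gNorm 2048 13 = true := by decide +kernel
set_option maxRecDepth 100000 in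
theorem cNorm14 : chunk gNorm 2048 14 = true := by decide +kernel
set_option maxRecDepth 100000 in
theorem cNorm15 : chunk gNorm 2048 15 = true := by decide +kernel
set_option maxRecDepth 100000 in
theorem cNorm16 : chunk gNorm 2048 16 = true := by decide +kernel
set_option maxRecDepth 100000 in
theorem cNorm17 : chunk gNorm 2048 17 = true := by decide +kernel
set_option maxRecDepth 100000 in
theorem cNorm18 : chunk gNorm 2048 18 = true := by decide +kernel
set_option maxRecDepth 100000 in
theorem cNorm19 : chunk gNorm 2048 19 = true := by decide +kernel
set_option maxRecDepth 100000 in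
theorem cNorm20 : chunk gNorm 2048 20 = true := by decide +kernel
set_option maxRecDepth 100000 in
theorem cNorm21 : chunk gNorm 2048 21 = true := by decide +kernel
set_option maxRecDepth 100000 in
theorem cNorm22 : chunk gNorm 2048 22 = true := by decide +kernel
set_option maxRecDepth 100000 in
theorem cInj0 : chunk gInj 2048 0 = true := by decide +kernel
set_option maxRecDepth 100000 in
theorem cInj1 : chunk gInj 2048 1 = true := by decide +kernel
set_option maxRecDepth 100000 in
theorem cInj2 : chunk gInj 2048 2 = true := by decide +kernel
set_option maxRecDepth 100000 in
theorem cInj3 : chunk gInj 2048 3 = true := by decide +kernel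
set_option maxRecDepth 100000 in
theorem cInj4 : chunk gInj 2048 4 = true := by decide +kernel
set_option maxRecDepth 100000 in
theorem cInj5 : chunk gInj 2048 5 = true := by decide +kernel
set_option maxRecDepth 100000 in
theorem cInj6 : chunk gInj 2048 6 = true := by decide +kernel
set_option maxRecDepth 100000 in
theorem cInj7 : chunk gInj 2048 7 = true := by decide +kernel
set_option maxRecDepth 100000 in
theorem cInj8 : chunk gInj 2048 8 = true := by decide +kernel
set_option maxRecDepth 100000 in
theorem cInj9 : chunk gInj 2048 9 = true := by decide +kernel
set_option maxRecDepth 100000 in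
theorem cInj10 : chunk gInj 2048 10 = true := by decide +kernel
set_option maxRecDepth 100000 in
theorem cInj11 : chunk gInj 2048 11 = true := by decide +kernel
set_option maxRecDepth 100000 in
theorem cInj12 : chunk gInj 2048 12 = true := by decide +kernel
set_option maxRecDepth 100000 in
theorem cInj13 : chunk gInj 2048 13 = true := by decide +kernel
set_option maxRecDepth 100000 in
theorem cInj14 : chunk gInj 2048 14 = true := by decide +kernel
set_option maxRecDepth 100000 in
theorem cInj15 : chunk gInj 2048 15 = true := by decide +kernel
set_option maxRecDepth 100000 in
theorem cInj16 : chunk gInj 2048 16 = true := by decide +kernel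
set_option maxRecDepth 100000 in
theorem cInj17 : chunk gInj 2048 17 = true := by decide +kernel
set_option maxRecDepth 100000 in
theorem cInj18 : chunk gInj 2048 18 = true := by decide +kernel
set_option maxRecDepth 100000 in
theorem cInj19 : chunk gInj 2048 19 = true := by decide +kernel
set_option maxRecDepth 100000 in
theorem cInj20 : chunk gInj 2048 20 = true := by decide +kernel
set_option maxRecDepth 100000 in
theorem cInj21 : chunk gInj 2048 21 = true := by decide +kernel
set_option maxRecDepth 100000 in
theorem cInj22 : chunk gInj 2048 22 = true := by decide +kernel

theorem tMem : allBelow (fun i => chkL (vecZ tab i)) N = true := by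
  have h : allBelow gMem (23 * 2048) = true := allBelow_of_chunks (fun c hc => by
    interval_cases c
    · exact cMem0
    · exact cMem1
    · exact cMem2
    · exact cMem3
    · exact cMem4
    · exact cMem5
    · exact cMem6
    · exact cMem7
    · exact cMem8
    · exact cMem9
    · exact cMem10
    · exact cMem11
    · exact cMem12
    · exact cMem13
    · exact cMem14
    · exact cMem15
    · exact cMem16
    · exact cMem17
    · exact cMem18
    · exact cMem19
    · exact cMem20
    · exact cMem21
    · exact cMem22
  )
  exact h

theorem tNorm : allBelow (fun i => decide (dotZ tab i i = 32) && testsOK tests (vecZ tab i)) N = true := by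
  have h : allBelow gNorm (23 * 2048) = true := allBelow_of_chunks (fun c hc => by
    interval_cases c
    · exact cNorm0
    · exact cNorm1
    · exact cNorm2
    · exact cNorm3
    · exact cNorm4
    · exact cNorm5
    · exact cNorm6
    · exact cNorm7
    · exact cNorm8
    · exact cNorm9
    · exact cNorm10
    · exact cNorm11
    · exact cNorm12
    · exact cNorm13
    · exact cNorm14
    · exact cNorm15
    · exact cNorm16
    · exact cNorm17
    · exact cNorm18
    · exact cNorm19
    · exact cNorm20
    · exact cNorm21
    · exact cNorm22
  )
  exact h

theorem tInj : allBelow (fun i => Nat.beq (find tab N (pack (vecZ tab i))) i) N = true := by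
  have h : allBelow gInj (23 * 2048) = true := allBelow_of_chunks (fun c hc => by
    interval_cases c
    · exact cInj0
    · exact cInj1
    · exact cInj2
    · exact cInj3
    · exact cInj4
    · exact cInj5
    · exact cInj6
    · exact cInj7
    · exact cInj8
    · exact cInj9
    · exact cInj10
    · exact cInj11
    · exact cInj12
    · exact cInj13
    · exact cInj14
    · exact cInj15
    · exact cInj16
    · exact cInj17
    · exact cInj18
    · exact cInj19
    · exact cInj20
    · exact cInj21
    · exact cInj22
  )
  exact h

/-- The representation. -/
noncomputable def R : LRep Spor.Co2 N where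
  tab := tab
  tests := tests
  hG := fun _ hg => hg.1
  hfix := fun t ht => by
    simp only [tests, List.mem_cons, List.not_mem_nil, or_false] at ht
    rcases ht with rfl
    exact ⟨leechU, fun g hg => hg.2, rowU_pt⟩
  hcols := by decide +kernel
  hmem := tMem
  hnorm := tNorm
  hinj := tInj
  hA := shA
  hB := shB
  hC := shC

end Cfsg.Agent.Lib.KnownSimple.Leech.Co2
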