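import Cfsg.Agent.Lib.KnownSimple.Leech.Big
import Cfsg.Agent.Lib.KnownSimple.Leech.Co2.DataV

/-!
# The second Conway group acting on 47104 vectors of the lattice: the shape check
-/

set_option autoImplicit false

namespace Cfsg.Agent.Lib.KnownSimple.Leech.Co2

open Cfsg Cfsg.Spor Cfsg.Agent.Lib.Compute Cfsg.Agent.Lib.Golay Cfsg.Agent.Lib.KnownSimple.PE
open Cfsg.Agent.Lib.KnownSimple.Leech Cfsg.Agent.Lib.KnownSimple.Leech.Co2Data

/-- The number of points. -/
abbrev N : ℕ := 47104

/-- The table of vectors. -/
noncomputable def tab (i : ℕ) : ℕ := pgetB 120 1329227995784915872903807060280344575 8 255 vBlocks i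

/-- The tests. -/
noncomputable def tests : List (List (ℕ × ℤ) × ℤ) := [(rowU, -8)]

/-- The test on vectors. -/
noncomputable def Pc : (ℕ → ℤ) → Bool := classP tab N tests

theorem shA : allA Pc = true := by decide +kernel

set_option maxRecDepth 100000 in
theorem hB0 : chunk (gB Pc) 64 0 = true := by decide +kernel
set_option maxRecDepth 100000 in
theorem hB1 : chunk (gB Pc) 64 1 = true := by decide +kernel
set_option maxRecDepth 100000 in
theorem hB2 : chunk (gB Pc) 64 2 = true := by decide +kernel
set_option maxRecDepth 100000 in
theorem hB3 : chunk (gB Pc) 64 3 = true := by decide +kernel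
set_option maxRecDepth 100000 in
theorem hB4 : chunk (gB Pc) 64 4 = true := by decide +kernel
set_option maxRecDepth 100000 in
theorem hB5 : chunk (gB Pc) 64 5 = true := by decide +kernel
set_option maxRecDepth 100000 in
theorem hB6 : chunk (gB Pc) 64 6 = true := by decide +kernel
set_option maxRecDepth 100000 in
theorem hB7 : chunk (gB Pc) 64 7 = true := by decide +kernel
set_option maxRecDepth 100000 in
theorem hB8 : chunk (gB Pc) 64 8 = true := by decide +kernel
set_option maxRecDepth 100000 in
theorem hB9 : chunk (gB Pc) 64 9 = true := by decide +kernel
set_option maxRecDepth 100000 in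
theorem hB10 : chunk (gB Pc) 64 10 = true := by decide +kernel
set_option maxRecDepth 100000 in
theorem hB11 : chunk (gB Pc) 64 11 = true := by decide +kernel
set_option maxRecDepth 100000 in
theorem hB12 : chunk (gB Pc) 64 12 = true := by decide +kernel
set_option maxRecDepth 100000 in
theorem hB13 : chunk (gB Pc) 64 13 = true := by decide +kernel
set_option maxRecDepth 100000 in
theorem hB14 : chunk (gB Pc) 64 14 = true := by decide +kernel
set_option maxRecDepth 100000 in
theorem hB15 : chunk (gB Pc) 64 15 = true := by decide +kernel
set_option maxRecDepth 100000 in
theorem hB16 : chunk (gB Pc) 64 16 = true := by decide +kernel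
set_option maxRecDepth 100000 in
theorem hB17 : chunk (gB Pc) 64 17 = true := by decide +kernel
set_option maxRecDepth 100000 in
theorem hB18 : chunk (gB Pc) 64 18 = true := by decide +kernel
set_option maxRecDepth 100000 in
theorem hB19 : chunk (gB Pc) 64 19 = true := by decide +kernel
set_option maxRecDepth 100000 in
theorem hB20 : chunk (gB Pc) 64 20 = true := by decide +kernel
set_option maxRecDepth 100000 in
theorem hB21 : chunk (gB Pc) 64 21 = true := by decide +kernel
set_option maxRecDepth 100000 in
theorem hB22 : chunk (gB Pc) 64 22 = true := by decide +kernel
set_option maxRecDepth 100000 in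
theorem hB23 : chunk (gB Pc) 64 23 = true := by decide +kernel
set_option maxRecDepth 100000 in
theorem hB24 : chunk (gB Pc) 64 24 = true := by decide +kernel
set_option maxRecDepth 100000 in
theorem hB25 : chunk (gB Pc) 64 25 = true := by decide +kernel
set_option maxRecDepth 100000 in
theorem hB26 : chunk (gB Pc) 64 26 = true := by decide +kernel
set_option maxRecDepth 100000 in
theorem hB27 : chunk (gB Pc) 64 27 = true := by decide +kernel
set_option maxRecDepth 100000 in
theorem hB28 : chunk (gB Pc) 64 28 = true := by decide +kernel
set_option maxRecDepth 100000 in
theorem hB29 : chunk (gB Pc) 64 29 = true := by decide +kernel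
set_option maxRecDepth 100000 in
theorem hB30 : chunk (gB Pc) 64 30 = true := by decide +kernel
set_option maxRecDepth 100000 in
theorem hB31 : chunk (gB Pc) 64 31 = true := by decide +kernel
set_option maxRecDepth 100000 in
theorem hB32 : chunk (gB Pc) 64 32 = true := by decide +kernel
set_option maxRecDepth 100000 in
theorem hB33 : chunk (gB Pc) 64 33 = true := by decide +kernel
set_option maxRecDepth 100000 in
theorem hB34 : chunk (gB Pc) 64 34 = true := by decide +kernel
set_option maxRecDepth 100000 in
theorem hB35 : chunk (gB Pc) 64 35 = true := by decide +kernel
set_option maxRecDepth 100000 in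
theorem hB36 : chunk (gB Pc) 64 36 = true := by decide +kernel
set_option maxRecDepth 100000 in
theorem hB37 : chunk (gB Pc) 64 37 = true := by decide +kernel
set_option maxRecDepth 100000 in
theorem hB38 : chunk (gB Pc) 64 38 = true := by decide +kernel
set_option maxRecDepth 100000 in
theorem hB39 : chunk (gB Pc) 64 39 = true := by decide +kernel
set_option maxRecDepth 100000 in
theorem hB40 : chunk (gB Pc) 64 40 = true := by decide +kernel
set_option maxRecDepth 100000 in
theorem hB41 : chunk (gB Pc) 64 41 = true := by decide +kernel
set_option maxRecDepth 100000 in
theorem hB42 : chunk (gB Pc) 64 42 = true := by decide +kernel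
set_option maxRecDepth 100000 in
theorem hB43 : chunk (gB Pc) 64 43 = true := by decide +kernel
set_option maxRecDepth 100000 in
theorem hB44 : chunk (gB Pc) 64 44 = true := by decide +kernel
set_option maxRecDepth 100000 in
theorem hB45 : chunk (gB Pc) 64 45 = true := by decide +kernel
set_option maxRecDepth 100000 in
theorem hB46 : chunk (gB Pc) 64 46 = true := by decide +kernel
set_option maxRecDepth 100000 in
theorem hB47 : chunk (gB Pc) 64 47 = true := by decide +kernel
set_option maxRecDepth 100000 in
theorem hB48 : chunk (gB Pc) 64 48 = true := by decide +kernel
set_option maxRecDepth 100000 in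
theorem hB49 : chunk (gB Pc) 64 49 = true := by decide +kernel
set_option maxRecDepth 100000 in
theorem hB50 : chunk (gB Pc) 64 50 = true := by decide +kernel
set_option maxRecDepth 100000 in
theorem hB51 : chunk (gB Pc) 64 51 = true := by decide +kernel
set_option maxRecDepth 100000 in
theorem hB52 : chunk (gB Pc) 64 52 = true := by decide +kernel
set_option maxRecDepth 100000 in
theorem hB53 : chunk (gB Pc) 64 53 = true := by decide +kernel
set_option maxRecDepth 100000 in
theorem hB54 : chunk (gB Pc) 64 54 = true := by decide +kernel
set_option maxRecDepth 100000 in
theorem hB55 : chunk (gB Pc) 64 55 = true := by decide +kernel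
set_option maxRecDepth 100000 in
theorem hB56 : chunk (gB Pc) 64 56 = true := by decide +kernel
set_option maxRecDepth 100000 in
theorem hB57 : chunk (gB Pc) 64 57 = true := by decide +kernel
set_option maxRecDepth 100000 in
theorem hB58 : chunk (gB Pc) 64 58 = true := by decide +kernel
set_option maxRecDepth 100000 in
theorem hB59 : chunk (gB Pc) 64 59 = true := by decide +kernel
set_option maxRecDepth 100000 in
theorem hB60 : chunk (gB Pc) 64 60 = true := by decide +kernel
set_option maxRecDepth 100000 in
theorem hB61 : chunk (gB Pc) 64 61 = true := by decide +kernel
set_option maxRecDepth 100000 in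
theorem hB62 : chunk (gB Pc) 64 62 = true := by decide +kernel
set_option maxRecDepth 100000 in
theorem hB63 : chunk (gB Pc) 64 63 = true := by decide +kernel
set_option maxRecDepth 100000 in
theorem hC0 : chunk (gC Pc) 128 0 = true := by decide +kernel
set_option maxRecDepth 100000 in
theorem hC1 : chunk (gC Pc) 128 1 = true := by decide +kernel
set_option maxRecDepth 100000 in
theorem hC2 : chunk (gC Pc) 128 2 = true := by decide +kernel
set_option maxRecDepth 100000 in
theorem hC3 : chunk (gC Pc) 128 3 = true := by decide +kernel
set_option maxRecDepth 100000 in
theorem hC4 : chunk (gC Pc) 128 4 = true := by decide +kernel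
set_option maxRecDepth 100000 in
theorem hC5 : chunk (gC Pc) 128 5 = true := by decide +kernel
set_option maxRecDepth 100000 in
theorem hC6 : chunk (gC Pc) 128 6 = true := by decide +kernel
set_option maxRecDepth 100000 in
theorem hC7 : chunk (gC Pc) 128 7 = true := by decide +kernel
set_option maxRecDepth 100000 in
theorem hC8 : chunk (gC Pc) 128 8 = true := by decide +kernel
set_option maxRecDepth 100000 in
theorem hC9 : chunk (gC Pc) 128 9 = true := by decide +kernel
set_option maxRecDepth 100000 in
theorem hC10 : chunk (gC Pc) 128 10 = true := by decide +kernel
set_option maxRecDepth 100000 in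
theorem hC11 : chunk (gC Pc) 128 11 = true := by decide +kernel
set_option maxRecDepth 100000 in
theorem hC12 : chunk (gC Pc) 128 12 = true := by decide +kernel
set_option maxRecDepth 100000 in
theorem hC13 : chunk (gC Pc) 128 13 = true := by decide +kernel
set_option maxRecDepth 100000 in
theorem hC14 : chunk (gC Pc) 128 14 = true := by decide +kernel
set_option maxRecDepth 100000 in
theorem hC15 : chunk (gC Pc) 128 15 = true := by decide +kernel
set_option maxRecDepth 100000 in
theorem hC16 : chunk (gC Pc) 128 16 = true := by decide +kernel
set_option maxRecDepth 100000 in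
theorem hC17 : chunk (gC Pc) 128 17 = true := by decide +kernel
set_option maxRecDepth 100000 in
theorem hC18 : chunk (gC Pc) 128 18 = true := by decide +kernel
set_option maxRecDepth 100000 in
theorem hC19 : chunk (gC Pc) 128 19 = true := by decide +kernel
set_option maxRecDepth 100000 in
theorem hC20 : chunk (gC Pc) 128 20 = true := by decide +kernel
set_option maxRecDepth 100000 in
theorem hC21 : chunk (gC Pc) 128 21 = true := by decide +kernel
set_option maxRecDepth 100000 in
theorem hC22 : chunk (gC Pc) 128 22 = true := by decide +kernel
set_option maxRecDepth 100000 in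
theorem hC23 : chunk (gC Pc) 128 23 = true := by decide +kernel
set_option maxRecDepth 100000 in
theorem hC24 : chunk (gC Pc) 128 24 = true := by decide +kernel
set_option maxRecDepth 100000 in
theorem hC25 : chunk (gC Pc) 128 25 = true := by decide +kernel
set_option maxRecDepth 100000 in
theorem hC26 : chunk (gC Pc) 128 26 = true := by decide +kernel
set_option maxRecDepth 100000 in
theorem hC27 : chunk (gC Pc) 128 27 = true := by decide +kernel
set_option maxRecDepth 100000 in
theorem hC28 : chunk (gC Pc) 128 28 = true := by decide +kernel
set_option maxRecDepth 100000 in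
theorem hC29 : chunk (gC Pc) 128 29 = true := by decide +kernel
set_option maxRecDepth 100000 in
theorem hC30 : chunk (gC Pc) 128 30 = true := by decide +kernel
set_option maxRecDepth 100000 in
theorem hC31 : chunk (gC Pc) 128 31 = true := by decide +kernel

theorem shB : allB Pc = true := by
  have h : allBelow (gB Pc) (64 * 64) = true := allBelow_of_chunks (fun c hc => by
    interval_cases c
    · exact hB0
    · exact hB1
    · exact hB2
    · exact hB3
    · exact hB4
    · exact hB5
    · exact hB6
    · exact hB7
    · exact hB8
    · exact hB9
    · exact hB10
    · exact hB11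
    · exact hB12
    · exact hB13
    · exact hB14
    · exact hB15
    · exact hB16
    · exact hB17
    · exact hB18
    · exact hB19
    · exact hB20
    · exact hB21
    · exact hB22
    · exact hB23
    · exact hB24
    · exact hB25
    · exact hB26
    · exact hB27
    · exact hB28
    · exact hB29
    · exact hB30
    · exact hB31
    · exact hB32
    · exact hB33
    · exact hB34
    · exact hB35
    · exact hB36
    · exact hB37
    · exact hB38
    · exact hB39
    · exact hB40
    · exact hB41
    · exact hB42
    · exact hB43
    · exact hB44
    · exact hB45
    · exact hB46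
    · exact hB47
    · exact hB48
    · exact hB49
    · exact hB50
    · exact hB51
    · exact hB52
    · exact hB53
    · exact hB54
    · exact hB55
    · exact hB56
    · exact hB57
    · exact hB58
    · exact hB59
    · exact hB60
    · exact hB61
    · exact hB62
    · exact hB63
  )
  exact h

theorem shC : allC Pc = true := by
  have h : allBelow (gC Pc) (32 * 128) = true := allBelow_of_chunks (fun c hc => by
    interval_cases c
    · exact hC0
    · exact hC1
    · exact hC2
    · exact hC3
    · exact hC4
    · exact hC5
    · exact hC6
    · exact hC7
    · exact hC8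
    · exact hC9
    · exact hC10
    · exact hC11
    · exact hC12
    · exact hC13
    · exact hC14
    · exact hC15
    · exact hC16
    · exact hC17
    · exact hC18
    · exact hC19
    · exact hC20
    · exact hC21
    · exact hC22
    · exact hC23
    · exact hC24
    · exact hC25
    · exact hC26
    · exact hC27
    · exact hC28
    · exact hC29
    · exact hC30
    · exact hC31
  )
  exact h

end Cfsg.Agent.Lib.KnownSimple.Leech.Co2
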