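import Cfsg.Agent.Lib.KnownSimple.Leech.Co2.Pre

/-!
# A search in the second Conway group
-/

set_option autoImplicit false

namespace Cfsg.Agent.Lib.KnownSimple.Leech.Co2

open Cfsg Cfsg.Spor Cfsg.Agent.Lib.Compute Cfsg.Agent.Lib.Golay Cfsg.Agent.Lib.KnownSimple.PE
open Cfsg.Agent.Lib.KnownSimple Cfsg.Agent.Lib.KnownSimple.AutRigid
open Cfsg.Agent.Lib.KnownSimple.Leech Cfsg.Agent.Lib.KnownSimple.Leech.Co2Data

set_option maxRecDepth 100000 in
theorem sN1_0 : chunk gN1 2048 0 = true := by decide +kernel
set_option maxRecDepth 100000 in
theorem sN1_1 : chunk gN1 2048 1 = true := by decide +kernel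
set_option maxRecDepth 100000 in
theorem sN1_2 : chunk gN1 2048 2 = true := by decide +kernel
set_option maxRecDepth 100000 in
theorem sN1_3 : chunk gN1 2048 3 = true := by decide +kernel
set_option maxRecDepth 100000 in
theorem sN1_4 : chunk gN1 2048 4 = true := by decide +kernel
set_option maxRecDepth 100000 in
theorem sN1_5 : chunk gN1 2048 5 = true := by decide +kernel
set_option maxRecDepth 100000 in
theorem sN1_6 : chunk gN1 2048 6 = true := by decide +kernel
set_option maxRecDepth 100000 in
theorem sN1_7 : chunk gN1 2048 7 = true := by decide +kernel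
set_option maxRecDepth 100000 in
theorem sN1_8 : chunk gN1 2048 8 = true := by decide +kernel
set_option maxRecDepth 100000 in
theorem sN1_9 : chunk gN1 2048 9 = true := by decide +kernel
set_option maxRecDepth 100000 in
theorem sN1_10 : chunk gN1 2048 10 = true := by decide +kernel
set_option maxRecDepth 100000 in
theorem sN1_11 : chunk gN1 2048 11 = true := by decide +kernel
set_option maxRecDepth 100000 in
theorem sN1_12 : chunk gN1 2048 12 = true := by decide +kernel
set_option maxRecDepth 100000 in
theorem sN1_13 : chunk gN1 2048 13 = true := by decide +kernel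
set_option maxRecDepth 100000 in
theorem sN1_14 : chunk gN1 2048 14 = true := by decide +kernel
set_option maxRecDepth 100000 in
theorem sN1_15 : chunk gN1 2048 15 = true := by decide +kernel
set_option maxRecDepth 100000 in
theorem sN1_16 : chunk gN1 2048 16 = true := by decide +kernel
set_option maxRecDepth 100000 in
theorem sN1_17 : chunk gN1 2048 17 = true := by decide +kernel
set_option maxRecDepth 100000 in
theorem sN1_18 : chunk gN1 2048 18 = true := by decide +kernel
set_option maxRecDepth 100000 in
theorem sN1_19 : chunk gN1 2048 19 = true := by decide +kernel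
set_option maxRecDepth 100000 in
theorem sN1_20 : chunk gN1 2048 20 = true := by decide +kernel
set_option maxRecDepth 100000 in
theorem sN1_21 : chunk gN1 2048 21 = true := by decide +kernel
set_option maxRecDepth 100000 in
theorem sN1_22 : chunk gN1 2048 22 = true := by decide +kernel

end Cfsg.Agent.Lib.KnownSimple.Leech.Co2
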