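import Cfsg.Agent.Lib.KnownSimple.Leech.Co2.Gens

/-!
# The second Conway group: the top of the chain
-/

set_option autoImplicit false

namespace Cfsg.Agent.Lib.KnownSimple.Leech.Co2

open Cfsg Cfsg.Spor Cfsg.Agent.Lib.Compute Cfsg.Agent.Lib.Golay Cfsg.Agent.Lib.KnownSimple.PE
open Cfsg.Agent.Lib.KnownSimple Cfsg.Agent.Lib.KnownSimple.AutRigid
open Cfsg.Agent.Lib.KnownSimple.Leech Cfsg.Agent.Lib.KnownSimple.Leech.Co2Data


/-- The codes of the top level. -/
noncomputable def fsTop : ℕ → ℕ → ℕ := lgetD (fun a => a) [pq t0B, pq t1B, pq t2B]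
/-- The inverse codes of the top level. -/
noncomputable def gsTop : ℕ → ℕ → ℕ := lgetD (fun a => a) [cdOf E (D0 : Equiv.Perm (Fin N))⁻¹, cdOf E (D1 : Equiv.Perm (Fin N))⁻¹, cdOf E (D2 : Equiv.Perm (Fin N))⁻¹]

/-- The top level. -/
noncomputable def L0 : Lev :=
  { b := 47103, D := Nat.sub (Nat.shiftLeft 1 47104) 1, arr := A_L0, w := 22, m := 4194303, mp := 65535, bn := 16, mg := 3, bd := 18,
    fs := fsTop, gs := gsTop }

theorem gens0 : GensIn E K L0 := by
  intro k
  match k with
  | 0 => exact ⟨_, memK_D0, code_D0, isCode_cdOf _⟩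
  | 1 => exact ⟨_, memK_D1, code_D1, isCode_cdOf _⟩
  | 2 => exact ⟨_, memK_D2, code_D2, isCode_cdOf _⟩
  | (k + 3) =>
    refine ⟨1, K.one_mem, isCode_one E, ?_⟩
    rw [inv_one]
    exact isCode_one E

theorem K_le_H : K ≤ H := by
  rw [K, Subgroup.closure_le]
  rintro s (rfl | rfl | rfl)
  · exact (D0 : G).2
  · exact (D1 : G).2
  · exact (D2 : G).2

theorem K1_le : KK1 ≤ K := by
  rw [KK1, Subgroup.closure_le]
  rintro s (rfl | rfl | rfl)
  · exact memK_pow D1 1 memK_D1
  · exact memK_pow D2 2 memK_D2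
  · exact K.mul_mem (memK_pow D0 22 memK_D0) (K.mul_mem (memK_pow D2 9 memK_D2) (K.mul_mem (memK_pow D2 9 memK_D2) (K.mul_mem (memK_pow D0 22 memK_D0) (K.mul_mem (memK_pow D2 1 memK_D2) (K.mul_mem (memK_pow D0 1 memK_D0) (K.mul_mem (memK_pow D2 1 memK_D2) (K.mul_mem (memK_pow D2 1 memK_D2) (K.mul_mem (memK_pow D1 1 memK_D1) (K.mul_mem (memK_pow D1 1 memK_D1) (K.mul_mem (memK_pow D0 1 memK_D0) (K.mul_mem (memK_pow D2 1 memK_D2) (K.mul_mem (memK_pow D0 1 memK_D0) (K.mul_mem (memK_pow D1 1 memK_D1) (K.mul_mem (memK_pow D2 1 memK_D2) (memK_pow D0 1 memK_D0)))))))))))))))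

/-- The known generators of the stabiliser, in the group. -/
def toCo2 (g : ↥Spor.McL) : ↥Spor.Co2 := ⟨g.1, g.2.1.1, g.2.2⟩

theorem codeK_U : E.IsCode (R.rep (toCo2 McL.gU)) (hyb OM (ps TGU) (cdOf E (R.rep (toCo2 McL.gU)))) :=
  R.code_hyb_P (g := toCo2 McL.gU) (π := ⟨_, MathieuFacts.mem_U⟩) rfl MathieuFacts.code_U hO hol (by decide +kernel)
theorem codeK_X : E.IsCode (R.rep (toCo2 McL.gX)) (hyb OM (ps TGX) (cdOf E (R.rep (toCo2 McL.gX)))) :=
  R.code_hyb_P (g := toCo2 McL.gX) (π := ⟨_, MathieuFacts.mem_X⟩) rfl MathieuFacts.code_X hO hol (by decide +kernel)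
theorem codeK_Y : E.IsCode (R.rep (toCo2 McL.gY)) (hyb OM (ps TGY) (cdOf E (R.rep (toCo2 McL.gY)))) :=
  R.code_hyb_P (g := toCo2 McL.gY) (π := ⟨_, MathieuFacts.mem_Y4⟩) rfl MathieuFacts.code_Y4 hO hol (by decide +kernel)
theorem codeK_E : E.IsCode (R.rep (toCo2 McL.gE)) (hyb OM (ps TGE) (cdOf E (R.rep (toCo2 McL.gE)))) :=
  R.code_hyb_S (g := toCo2 McL.gE) McL.colsE McL.eP_spec hO hol (by decide +kernel)

theorem fix0' : ∀ σ ∈ KK1, σ (E.pt 47103) = E.pt 47103 := by
  apply closure_fix
  rintro s (rfl | rfl | rfl)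
  · exact fix_of_code code_S0 (by norm_num) (by decide +kernel)
  · exact fix_of_code code_S1 (by norm_num) (by decide +kernel)
  · exact fix_of_code code_S2 (by norm_num) (by decide +kernel)

theorem sift_K {σ : Equiv.Perm (Fin N)} (hσ : σ ∈ H) {c : ℕ → ℕ} (hc : E.IsCode σ c) (h0 : c 47103 = 47103)
    (hs : siftL (n := N) (L1 :: chTail1) ((basesOf (L1 :: chTail1)).map c) = true) : σ ∈ KK1 := by
  have hbl' : 47103 < N := by norm_num
  refine sift_sound ch1 [47103] ((by decide +kernel : [47103] ++ basesOf (L1 :: chTail1) = baseAll) ▸ based_all) KKH1 ?_ hσ ?_ hc hs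
  · intro τ hτ x hx
    rw [List.mem_singleton.1 hx]
    exact fix0' τ hτ
  · intro x hx
    rw [List.mem_singleton.1 hx]
    exact fix_of_code hc hbl' h0

theorem hV_eq : ∀ j, j < 24 → dotS rowV (dlt j) = -(dotS rowU (dlt j) + vecZ tab 47103 j) := by decide +kernel

theorem fixV (g : ↥Spor.Co2) (hfix : R.rep g ⟨47103, by norm_num⟩ = ⟨47103, by norm_num⟩) : g.1 leechV = leechV := by
  have hb : 47103 < N := by norm_num
  have hg := g.2.1
  have e : leechV = -(leechU + R.vec ⟨47103, hb⟩) := by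
    apply LL_ext
    intro j hj
    rw [rowV_pt j hj]
    show dotS rowV (dlt j) = -((leechU : Vec) (pt j) + ((R.vec ⟨47103, hb⟩ : LL) : Vec) (pt j))
    rw [rowU_pt j hj, R.vec_pt _ hj]
    exact hV_eq j hj
  have h2 := R.rep_spec g ⟨47103, hb⟩
  rw [hfix] at h2
  calc g.1 leechV = gHom hg leechV := rfl
    _ = gHom hg (-(leechU + R.vec ⟨47103, hb⟩)) := by rw [← e]
    _ = -(gHom hg leechU + gHom hg (R.vec ⟨47103, hb⟩)) := by rw [map_neg, map_add]
    _ = -(leechU + R.vec ⟨47103, hb⟩) := by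
      have h3 : gHom hg leechU = leechU := g.2.2
      have h4 : gHom hg (R.vec ⟨47103, hb⟩) = R.vec ⟨47103, hb⟩ := h2
      rw [h3, h4]
    _ = leechV := e.symm

theorem hstab : ∀ σ ∈ H, σ (E.pt 47103) = E.pt 47103 → σ ∈ KK1 := by
  rintro _ ⟨g, rfl⟩ hfix
  have hb : 47103 < N := by norm_num
  rw [LRep.coe_pt 47103 hb] at hfix
  have hM : g.1 ∈ Spor.McL := ⟨⟨g.2.1, fixV g hfix⟩, g.2.2⟩
  have hg := McL.gen_McL g.1 hM
  have h2 := rep_mem_closure Spor.Co2 R.rep KK1 (S := {McL.gU.1, McL.gX.1, McL.gY.1, McL.gE.1}) ?_ hg g.2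
  · exact h2
  · rintro s (rfl | rfl | rfl | rfl)
    · exact ⟨(toCo2 McL.gU).2, sift_K ⟨toCo2 McL.gU, rfl⟩ codeK_U (by decide +kernel) (by decide +kernel)⟩
    · exact ⟨(toCo2 McL.gX).2, sift_K ⟨toCo2 McL.gX, rfl⟩ codeK_X (by decide +kernel) (by decide +kernel)⟩
    · exact ⟨(toCo2 McL.gY).2, sift_K ⟨toCo2 McL.gY, rfl⟩ codeK_Y (by decide +kernel) (by decide +kernel)⟩
    · exact ⟨(toCo2 McL.gE).2, sift_K ⟨toCo2 McL.gE, rfl⟩ codeK_E (by decide +kernel) (by decide +kernel)⟩

set_option maxRecDepth 100000 in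
theorem trc0 : chunk (L0.treeAt N) 2048 0 = true := by decide +kernel
set_option maxRecDepth 100000 in
theorem trc1 : chunk (L0.treeAt N) 2048 1 = true := by decide +kernel
set_option maxRecDepth 100000 in
theorem trc2 : chunk (L0.treeAt N) 2048 2 = true := by decide +kernel
set_option maxRecDepth 100000 in
theorem trc3 : chunk (L0.treeAt N) 2048 3 = true := by decide +kernel
set_option maxRecDepth 100000 in
theorem trc4 : chunk (L0.treeAt N) 2048 4 = true := by decide +kernel
set_option maxRecDepth 100000 in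
theorem trc5 : chunk (L0.treeAt N) 2048 5 = true := by decide +kernel
set_option maxRecDepth 100000 in
theorem trc6 : chunk (L0.treeAt N) 2048 6 = true := by decide +kernel
set_option maxRecDepth 100000 in
theorem trc7 : chunk (L0.treeAt N) 2048 7 = true := by decide +kernel
set_option maxRecDepth 100000 in
theorem trc8 : chunk (L0.treeAt N) 2048 8 = true := by decide +kernel
set_option maxRecDepth 100000 in
theorem trc9 : chunk (L0.treeAt N) 2048 9 = true := by decide +kernel
set_option maxRecDepth 100000 in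
theorem trc10 : chunk (L0.treeAt N) 2048 10 = true := by decide +kernel
set_option maxRecDepth 100000 in
theorem trc11 : chunk (L0.treeAt N) 2048 11 = true := by decide +kernel
set_option maxRecDepth 100000 in
theorem trc12 : chunk (L0.treeAt N) 2048 12 = true := by decide +kernel
set_option maxRecDepth 100000 in
theorem trc13 : chunk (L0.treeAt N) 2048 13 = true := by decide +kernel
set_option maxRecDepth 100000 in
theorem trc14 : chunk (L0.treeAt N) 2048 14 = true := by decide +kernel
set_option maxRecDepth 100000 in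
theorem trc15 : chunk (L0.treeAt N) 2048 15 = true := by decide +kernel
set_option maxRecDepth 100000 in
theorem trc16 : chunk (L0.treeAt N) 2048 16 = true := by decide +kernel
set_option maxRecDepth 100000 in
theorem trc17 : chunk (L0.treeAt N) 2048 17 = true := by decide +kernel
set_option maxRecDepth 100000 in
theorem trc18 : chunk (L0.treeAt N) 2048 18 = true := by decide +kernel
set_option maxRecDepth 100000 in
theorem trc19 : chunk (L0.treeAt N) 2048 19 = true := by decide +kernel
set_option maxRecDepth 100000 in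
theorem trc20 : chunk (L0.treeAt N) 2048 20 = true := by decide +kernel
set_option maxRecDepth 100000 in
theorem trc21 : chunk (L0.treeAt N) 2048 21 = true := by decide +kernel
set_option maxRecDepth 100000 in
theorem trc22 : chunk (L0.treeAt N) 2048 22 = true := by decide +kernel
theorem tree0 : L0.treeOK N = true := by
  have h : allBelow (L0.treeAt N) (23 * 2048) = true := allBelow_of_chunks (fun c hc => by
    interval_cases c
    · exact trc0
    · exact trc1
    · exact trc2
    · exact trc3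
    · exact trc4
    · exact trc5
    · exact trc6
    · exact trc7
    · exact trc8
    · exact trc9
    · exact trc10
    · exact trc11
    · exact trc12
    · exact trc13
    · exact trc14
    · exact trc15
    · exact trc16
    · exact trc17
    · exact trc18
    · exact trc19
    · exact trc20
    · exact trc21
    · exact trc22
  )
  exact h

theorem hall0 : allBelow (tb L0.D) N = true := by decide +kernel

theorem top : H = K ∧ LevelSem E H KK1 L0 :=
  level_top K_le_H K1_le gens0 tree0 (by decide +kernel) hall0 fix0' hstab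

/-- The levels. -/
noncomputable def Ls : List Lev := [L0, L1, L2, L3, L4, L5, L6]

theorem chainH : ChainSem E H Ls := ⟨_, top.2, chF⟩

theorem sizes : (Ls.map (Lev.size N)).prod = 42305421312000 := by decide +kernel

theorem card_H : Nat.card H = 42305421312000 := by
  rw [chainH.card_eq, sizes]

end Cfsg.Agent.Lib.KnownSimple.Leech.Co2
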